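import Cfsg.Agent.EqLemmas

/-!
# Conjugators for the two regular classes of the Weyl group of F4 of orders eight and twelve
-/

set_option autoImplicit false

namespace Cfsg.Agent.ChevPG

/-- Conjugators, part 0. -/
def conjEight0 : List (List ℕ) := [[0], [0, 1], [1], [], [1, 0], [0, 1, 0], [2, 0], [3, 2, 1], [1, 2], [2], [3, 2, 1, 0], [1, 2, 0], [2, 0, 1], [3, 2], [1, 2, 1], [2, 1], [3, 2, 0, 1, 0], [1, 2, 0, 1], [3, 1], [3], [2, 1, 2, 1], [2, 1, 2], [3, 2, 0, 1, 2, 0], [1, 2, 0, 1, 2]]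

/-- Conjugators, part 1. -/
def conjEight1 : List (List ℕ) := [[3, 2, 0], [3, 2, 0, 1], [2, 1, 0], [2, 0, 1, 0], [1, 2, 0, 1, 0], [1, 2, 1, 0], [3, 0], [3, 2, 0, 1, 2], [3, 1, 0], [2, 1, 2, 0], [1, 2, 0, 1, 2, 0], [2, 1, 2, 1, 0], [2, 3, 2, 1], [2, 3, 2, 1, 2], [2, 3, 2], [2, 3, 2, 1, 2, 1], [2, 3], [2, 3, 1, 2, 1], [2, 3, 1], [2, 3, 1, 2], [3, 0, 1], [3, 2, 0, 1, 2, 1], [3, 0, 1, 0], [2, 1, 2, 0, 1]]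

/-- Conjugators, part 2. -/
def conjEight2 : List (List ℕ) := [[3, 2, 0, 1, 2, 1, 0], [2, 1, 2, 0, 1, 0], [2, 3, 0], [2, 3, 2, 0], [2, 3, 1, 0], [2, 3, 2, 1, 2, 0], [2, 3, 2, 1, 0], [2, 3, 1, 2, 0], [2, 3, 2, 1, 2, 1, 0], [2, 3, 1, 2, 1, 0], [3, 0, 1, 2], [3, 0, 1, 2, 1], [3, 0, 1, 2, 0], [3, 0, 1, 2, 0, 1], [3, 0, 1, 2, 1, 0], [3, 0, 1, 2, 0, 1, 0], [2, 3, 0, 1], [2, 3, 2, 0, 1], [2, 3, 0, 1, 0], [2, 3, 2, 1, 2, 0, 1], [2, 3, 2, 0, 1, 0], [2, 3, 1, 2, 0, 1], [2, 3, 2, 1, 2, 0, 1, 0], [2, 3, 1, 2, 0, 1, 0]]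

/-- Conjugators, part 3. -/
def conjEight3 : List (List ℕ) := [[2, 1, 2, 3, 1, 2, 1], [2, 1, 2, 3, 1, 2], [2, 1, 2, 3, 1, 2, 1, 0], [2, 1, 2, 3, 1, 2, 0, 1, 0], [2, 1, 2, 3, 1, 2, 0], [2, 1, 2, 3, 1, 2, 0, 1], [1, 2, 3], [1, 2, 3, 1, 2, 1], [1, 2, 3, 0], [2, 3, 2, 1, 2, 0, 1, 2], [1, 2, 3, 1, 2, 1, 0], [1, 2, 3, 0, 1, 2, 1], [2, 3, 2, 1, 2, 0, 1, 2, 0], [1, 2, 3, 0, 1, 2, 1, 0], [3, 2, 0, 1, 2, 3], [2, 1, 2, 3, 1], [3, 2, 0, 1, 2, 3, 0], [2, 1, 2, 3, 1, 2, 0, 1, 2, 0], [2, 1, 2, 3, 1, 0], [2, 1, 2, 3, 1, 2, 0, 1, 2], [1, 2, 3, 1], [1, 2, 3, 1, 2], [1, 2, 3, 0, 1], [1, 2, 3, 1, 2, 0, 1, 2, 0]]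

/-- Conjugators, part 4. -/
def conjEight4 : List (List ℕ) := [[1, 2, 3, 1, 2, 0, 1, 0], [1, 2, 3, 0, 1, 2], [1, 2, 3, 1, 2, 0, 1, 2, 1, 0], [1, 2, 3, 0, 1, 2, 0, 1, 0], [3, 2, 0, 1, 2, 3, 1], [2, 1, 2, 3], [1, 2, 0, 1, 2, 3], [1, 2, 0, 1, 2, 3, 2, 1, 2], [2, 1, 2, 3, 0, 1, 0], [2, 1, 2, 3, 1, 2, 0, 1, 2, 1], [1, 2, 3, 0, 1, 0], [1, 2, 3, 0, 1, 2, 0], [1, 2, 3, 1, 0], [1, 2, 3, 0, 1, 2, 0, 1], [1, 2, 3, 1, 2, 0], [1, 2, 3, 1, 2, 0, 1, 2, 1], [1, 2, 3, 1, 2, 0, 1], [1, 2, 3, 1, 2, 0, 1, 2], [2, 1, 2, 3, 2, 1], [2, 1, 2, 3, 2], [1, 2, 0, 1, 2, 3, 2, 1], [1, 2, 0, 1, 2, 3, 2], [2, 1, 2, 3, 0, 1, 2, 0], [2, 1, 2, 3, 0, 1, 2, 0, 1]]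

/-- Conjugators, part 5. -/
def conjEight5 : List (List ℕ) := [[2, 1, 2, 3, 0], [2, 1, 2, 3, 0, 1], [1, 2, 0, 1, 2, 3, 0], [3, 2, 0, 1, 2, 3, 1, 0], [2, 1, 2, 3, 1, 2, 0, 1, 2, 1, 0], [1, 2, 0, 1, 2, 3, 2, 1, 2, 0], [2, 1, 2, 3, 2, 0], [2, 1, 2, 3, 0, 1, 2], [1, 2, 0, 1, 2, 3, 2, 0], [2, 1, 2, 3, 2, 1, 0], [2, 1, 2, 3, 0, 1, 2, 0, 1, 0], [1, 2, 0, 1, 2, 3, 2, 1, 0], [2, 1, 2, 3, 2, 0, 1], [2, 1, 2, 3, 0, 1, 2, 1], [1, 2, 0, 1, 2, 3, 2, 0, 1], [2, 1, 2, 3, 2, 0, 1, 0], [2, 1, 2, 3, 0, 1, 2, 1, 0], [1, 2, 0, 1, 2, 3, 2, 0, 1, 0], [2, 1, 2, 3, 2, 0, 1, 2, 1], [2, 1, 2, 3, 2, 0, 1, 2], [2, 1, 2, 3, 2, 0, 1, 2, 0, 1], [2, 1, 2, 3, 2, 0, 1, 2, 0], [2, 1, 2, 3, 2, 0, 1, 2, 1, 0], [2, 1, 2, 3, 2, 0, 1, 2, 0, 1, 0]]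

/-- Words conjugating the elements of the class to the representative. -/
def conjEight : List (List ℕ) := conjEight0 ++ conjEight1 ++ conjEight2 ++ conjEight3 ++ conjEight4 ++ conjEight5

/-- Conjugators, part 0. -/
def conjTwelve0 : List (List ℕ) := [[0], [0, 1, 0], [0, 1], [1, 0], [], [1], [3, 0], [2, 0], [3], [1, 2, 0], [2], [1, 2], [3, 0, 1], [2, 0, 1], [3, 1], [1, 2, 0, 1], [2, 1], [1, 2, 1], [2, 3], [3, 1, 2, 1], [2, 3, 1], [3, 1, 2], [2, 1, 2], [2, 1, 2, 1]]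

/-- Conjugators, part 1. -/
def conjTwelve1 : List (List ℕ) := [[3, 0, 1, 0], [3, 1, 0], [2, 1, 0], [1, 2, 0, 1, 0], [2, 0, 1, 0], [1, 2, 1, 0], [2, 3, 0], [3, 1, 2, 0], [2, 3, 1, 0], [2, 1, 2, 0], [3, 1, 2, 1, 0], [2, 1, 2, 1, 0], [2, 3, 0, 1], [3, 1, 2, 0, 1], [2, 3, 0, 1, 0], [2, 1, 2, 0, 1], [3, 1, 2, 0, 1, 0], [2, 1, 2, 0, 1, 0], [2, 3, 0, 1, 2], [2, 3, 0, 1, 2, 1], [2, 3, 0, 1, 2, 0], [2, 1, 2, 0, 1, 2], [2, 1, 2, 0, 1, 2, 0], [2, 3, 0, 1, 2, 1, 0]]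

/-- Conjugators, part 2. -/
def conjTwelve2 : List (List ℕ) := [[1, 2, 3, 2, 1], [1, 2, 3, 2, 0], [1, 2, 3, 2], [1, 2, 3, 2, 0, 1], [1, 2, 3, 2, 1, 0], [1, 2, 3, 2, 0, 1, 0], [1, 2, 3, 0], [1, 2, 3, 2, 1, 2], [1, 2, 3], [2, 1, 2, 3, 1, 2, 1], [1, 2, 3, 2, 1, 2, 0], [2, 1, 2, 3, 1, 2, 1, 0], [1, 2, 3, 0, 1], [1, 2, 3, 2, 1, 2, 1], [1, 2, 3, 1], [2, 1, 2, 3, 1, 2], [2, 1, 2, 0, 1, 2, 3, 0], [2, 1, 2, 3, 1, 2, 0, 1, 0], [2, 1, 2, 3], [1, 2, 3, 1, 2, 1], [2, 1, 2, 3, 1], [1, 2, 3, 1, 2], [2, 1, 2, 0, 1, 2, 3, 2, 0], [2, 1, 2, 3, 1, 2, 0, 1, 2, 0]]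

/-- Conjugators, part 3. -/
def conjTwelve3 : List (List ℕ) := [[1, 2, 3, 0, 1, 0], [1, 2, 3, 1, 0], [2, 1, 2, 0, 1, 2, 3], [2, 1, 2, 3, 1, 2, 0], [1, 2, 3, 2, 1, 2, 1, 0], [2, 1, 2, 3, 1, 2, 0, 1], [2, 1, 2, 3, 0], [1, 2, 3, 1, 2, 0], [2, 1, 2, 3, 1, 0], [2, 1, 2, 0, 1, 2, 3, 2], [1, 2, 3, 1, 2, 1, 0], [2, 1, 2, 3, 1, 2, 0, 1, 2], [2, 1, 2, 3, 0, 1], [1, 2, 3, 1, 2, 0, 1], [2, 1, 2, 3, 0, 1, 0], [2, 1, 2, 0, 1, 2, 3, 2, 1], [1, 2, 3, 1, 2, 0, 1, 0], [2, 1, 2, 0, 1, 2, 3, 2, 1, 0], [2, 1, 2, 3, 0, 1, 2], [2, 1, 2, 3, 0, 1, 2, 1], [2, 1, 2, 3, 0, 1, 2, 0], [2, 1, 2, 3, 0, 1, 2, 0, 1, 0], [2, 1, 2, 3, 0, 1, 2, 0, 1], [2, 1, 2, 3, 0, 1, 2, 1, 0]]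

/-- Words conjugating the elements of the class to the representative. -/
def conjTwelve : List (List ℕ) := conjTwelve0 ++ conjTwelve1 ++ conjTwelve2 ++ conjTwelve3

end Cfsg.Agent.ChevPG
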