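import Cfsg.Agent.EqLemmas
import Cfsg.Agent.Lib.ChevInv.TabF4w
import Cfsg.Agent.Lib.ChevPG.ConjF4
import Cfsg.Agent.Lib.ChevLang.SylCert

/-!
# Computations in the Weyl group of F4 for the prime graph

The matrices of the elements on the coroot lattice, their characteristic polynomials as products of cyclotomic
polynomials, Krylov determinants.
-/

set_option autoImplicit false

namespace Cfsg.Agent.ChevPG

open Cfsg.Agent.ChevLang (pev padd pmul peq pprod)

/-- The values `cartan j (simple k)`. -/
def cmat : List (List ℤ) := [[2, -1, 0, 0], [-1, 2, -1, 0], [0, -2, 2, -1], [0, 0, -1, 2]]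

/-- A fundamental reflection on a coroot vector. -/
def stepS (k : ℕ) (v : List ℤ) : List ℤ :=
  let s := ((List.range 4).map fun j => (cmat.getD k []).getD j 0 * v.getD j 0).sum
  (List.range 4).map fun i => v.getD i 0 - if i = k then s else 0

/-- The image of a fundamental coroot under a word. -/
def colS (l : List ℕ) (i : ℕ) : List ℤ :=
  l.foldr stepS ((List.range 4).map fun j => if j = i then 1 else 0)

/-- An entry. -/
def ent (a : List (List ℤ)) (i j : ℕ) : ℤ := (a.getD i []).getD j 0

/-- The matrix of a word. -/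
def matS (l : List ℕ) : List (List ℤ) :=
  let cs := (List.range 4).map (colS l)
  (List.range 4).map fun j => cs.map fun c => c.getD j 0

/-- The identity. -/
def idS : List (List ℤ) := [[1, 0, 0, 0], [0, 1, 0, 0], [0, 0, 1, 0], [0, 0, 0, 1]]

/-- The product. -/
def mulS (a b : List (List ℤ)) : List (List ℤ) :=
  (List.range 4).map fun i => (List.range 4).map fun j =>
    ent a i 0 * ent b 0 j + ent a i 1 * ent b 1 j + ent a i 2 * ent b 2 j + ent a i 3 * ent b 3 j

/-- A minor of order two. -/
def d2 (a : List (List ℤ)) (i j k l : ℕ) : ℤ := ent a i k * ent a j l - ent a i l * ent a j k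

/-- A minor of order three. -/
def d3 (a : List (List ℤ)) (i j k p q r : ℕ) : ℤ :=
  ent a i p * d2 a j k q r - ent a i q * d2 a j k p r + ent a i r * d2 a j k p q

/-- The determinant. -/
def d4 (a : List (List ℤ)) : ℤ :=
  ent a 0 0 * d3 a 1 2 3 1 2 3 - ent a 0 1 * d3 a 1 2 3 0 2 3 + ent a 0 2 * d3 a 1 2 3 0 1 3 -
    ent a 0 3 * d3 a 1 2 3 0 1 2

/-- The coefficients of the characteristic polynomial. -/
def charS (a : List (List ℤ)) : List ℤ :=
  [d4 a, -(d3 a 1 2 3 1 2 3 + d3 a 0 2 3 0 2 3 + d3 a 0 1 3 0 1 3 + d3 a 0 1 2 0 1 2),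
    d2 a 0 1 0 1 + d2 a 0 2 0 2 + d2 a 0 3 0 3 + d2 a 1 2 1 2 + d2 a 1 3 1 3 + d2 a 2 3 2 3,
    -(ent a 0 0 + ent a 1 1 + ent a 2 2 + ent a 3 3), 1]

/-- Cyclotomic polynomials. -/
def phi : ℕ → List ℤ
  | 1 => [-1, 1]
  | 2 => [1, 1]
  | 3 => [1, 1, 1]
  | 4 => [1, 0, 1]
  | 6 => [1, -1, 1]
  | 8 => [1, 0, 0, 0, 1]
  | 12 => [1, 0, -1, 0, 1]
  | _ => []

/-- The occurring shapes of characteristic polynomials. -/
def shapes : List (List ℕ) :=
  [[1, 1, 1, 1], [1, 1, 1, 2], [1, 1, 2, 2], [1, 1, 3], [1, 1, 4], [1, 2, 2, 2], [1, 2, 3], [1, 2, 4], [1, 2, 6],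
    [2, 2, 2, 2], [2, 2, 4], [2, 2, 6], [3, 3], [4, 4], [6, 6], [8], [12]]

/-- The shape of a matrix. -/
def shape (a : List (List ℤ)) : Option (List ℕ) :=
  let c := charS a
  shapes.find? fun ds => peq c (pprod (ds.map phi))

/-- The elements of the chain up to a level, as words in the reflections of the certificate. -/
def prods (C : ChevInv.InvCert) : ℕ → List (List ℕ)
  | 0 => [[]]
  | k + 1 =>
    let p := prods C k
    (C.levels.getD k ⟨[], [], [], []⟩).reps.flatMap fun r => p.map fun w => r ++ w

/-- A word in the fundamental reflections. -/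
def wordN (w : List ℕ) : List ℕ := w.flatMap fun j => ChevInv.TabF4w.cert.words.getD j []

/-- The elements of the Weyl group. -/
def elts : List (List ℕ) := prods ChevInv.TabF4w.cert 4

/-- The elements of a shape. -/
def cls (d : ℕ) : List (List ℕ) := elts.filter fun w => shape (matS (wordN w)) == some [d]

/-- The conjugators lead to the representative. -/
def conjOK (d : ℕ) (w0 : List ℕ) (conj : List (List ℕ)) : Bool :=
  let a0 := matS w0
  let c := cls d
  c.length == conj.length && (c.zip conj).all fun p =>
    p.2.all (fun i => decide (i < 4)) && mulS (matS p.2) (matS (wordN p.1)) == mulS a0 (matS p.2)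

/-- A row times a matrix. -/
def rowMul (f : List ℤ) (a : List (List ℤ)) : List ℤ :=
  (List.range 4).map fun i =>
    f.getD 0 0 * ent a 0 i + f.getD 1 0 * ent a 1 i + f.getD 2 0 * ent a 2 i + f.getD 3 0 * ent a 3 i

/-- The matrix of a functional and its translates. -/
def krylov (a : List (List ℤ)) (f : List ℤ) : List (List ℤ) :=
  let f1 := rowMul f a
  let f2 := rowMul f1 a
  [f, f1, f2, rowMul f2 a]

/-- No prime factor above eleven. -/
def good (d : ℤ) : Bool := d != 0 && (2310 : ℤ) ^ 10 % d == 0

/-- The functionals of the roots. -/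
def rootF (r : ℕ) : List ℤ := (List.range 4).map fun i => Cfsg.Lie.chevF4.cartan i r

/-- No root has value one at a regular element. -/
def regOK (a : List (List ℤ)) : Bool := (List.range 48).all fun r => good (d4 (krylov a (rootF r)))

/-- Functionals killing the fixed vectors. -/
def fixF (a : List (List ℤ)) : List (List ℤ) :=
  let rows := (List.range 4).map fun i => (List.range 4).map fun j => ent a i j - ent idS i j
  rows ++ [(List.range 4).map fun j => ent rows 0 j + ent rows 1 j]

/-- No other element fixes a regular element. -/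
def stabOK (a0 : List (List ℤ)) : Bool :=
  elts.all fun w =>
    let a := matS (wordN w)
    if a == idS then w == [] else
      good ((((fixF a).map fun f => d4 (krylov a0 f)).foldr (fun d g => Int.gcd d g) 0 : ℕ) : ℤ)

/-- The representative of the class of order eight. -/
def repEight : List ℕ := [3, 2, 1, 2, 1, 0]

/-- The representative of the class of order twelve. -/
def repTwelve : List ℕ := [3, 2, 1, 0]

/-- A word, an eigenvalue shape for its inverse. -/
def tgtOK (w : List ℕ) (ds : List ℕ) : Bool :=
  shape (matS w.reverse) == some ds && mulS (matS w) (matS w.reverse) == idS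

end Cfsg.Agent.ChevPG
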