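import Cfsg.Agent.EqLemmas
import Cfsg.Agent.Lib.ChevPG.Table

/-!
# Checks for the prime graph of F4, part ChkA
-/

set_option autoImplicit false
set_option maxRecDepth 100000

namespace Cfsg.Agent.ChevPG

theorem elts_shape : elts.all (fun w => (shape (matS (wordN w))).isSome) = true := by decide +kernel

theorem conj_eight : conjOK 8 repEight conjEight = true := by decide +kernel

theorem conj_twelve : conjOK 12 repTwelve conjTwelve = true := by decide +kernel

theorem reg_eight : regOK (matS repEight) = true := by decide +kernel

theorem reg_twelve : regOK (matS repTwelve) = true := by decide +kernel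

end Cfsg.Agent.ChevPG
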