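import Cfsg.Agent.EqLemmas
import Cfsg.Agent.Lib.ChevPG.Table

/-!
# Checks for the prime graph of F4, part ChkB
-/

set_option autoImplicit false
set_option maxRecDepth 100000

namespace Cfsg.Agent.ChevPG

theorem stab_eight : stabOK (matS repEight) = true := by decide +kernel

end Cfsg.Agent.ChevPG
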