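import Cfsg.Agent.EqLemmas
import Mathlib.GroupTheory.Sylow

/-!
# Conjugation into a subgroup of full `r`-part
-/

set_option autoImplicit false

namespace Cfsg.Agent.ChevPG

open Pointwise

/-- In a subgroup `H` containing a subgroup `T` whose order has the full `r`-part of the group order, every
`r`-element is conjugate into `T`. -/
theorem exists_conj_mem {G : Type*} [Group G] [Finite G] (T H : Subgroup G) (hTH : T ≤ H) (r : ℕ) [Fact r.Prime]
    (hv : (Nat.card G).factorization r = (Nat.card T).factorization r) {y : G} (hy : y ∈ H) {k : ℕ}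
    (hyk : y ^ r ^ k = 1) : ∃ h ∈ H, h * y * h⁻¹ ∈ T := by
  have hG : (Nat.card G) ≠ 0 := Nat.card_pos.ne'
  have hH : (Nat.card H).factorization r = (Nat.card T).factorization r := by
    refine le_antisymm ?_ ?_
    · rw [← hv]
      exact (Nat.factorization_le_iff_dvd Nat.card_pos.ne' hG).2 (Subgroup.card_subgroup_dvd_card H) r
    · exact (Nat.factorization_le_iff_dvd Nat.card_pos.ne' Nat.card_pos.ne').2 (Subgroup.card_dvd_of_le hTH) r
  let P : Sylow r T := default
  let Q₀ : Subgroup H := (P : Subgroup T).map (Subgroup.inclusion hTH)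
  have hQ : Nat.card Q₀ = r ^ (Nat.card H).factorization r := by
    rw [hH, ← P.card_eq_multiplicity]
    exact Subgroup.card_map_of_injective (Subgroup.inclusion_injective hTH)
  let Q : Sylow r H := Sylow.ofCard Q₀ hQ
  have hyP : IsPGroup r (Subgroup.zpowers (⟨y, hy⟩ : H)) := by
    rw [IsPGroup.iff_card]
    obtain ⟨m, -, hm⟩ := (Nat.dvd_prime_pow (Fact.out : r.Prime)).1
      (orderOf_dvd_of_pow_eq_one (x := (⟨y, hy⟩ : H)) (n := r ^ k) (Subtype.ext hyk))
    exact ⟨m, by rw [Nat.card_zpowers, hm]⟩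
  obtain ⟨R, hR⟩ := hyP.exists_le_sylow
  obtain ⟨h, hh⟩ := MulAction.exists_smul_eq H R Q
  refine ⟨h.val, h.2, ?_⟩
  have hmem : h * ⟨y, hy⟩ * h⁻¹ ∈ Q₀ := by
    have e : (↑(h • R) : Subgroup H) = Q₀ := by rw [hh]; rfl
    rw [← e, Sylow.coe_subgroup_smul]
    exact Subgroup.smul_mem_pointwise_smul _ (MulAut.conj h) _ (hR (Subgroup.mem_zpowers _))
  obtain ⟨t, -, ht⟩ := Subgroup.mem_map.1 hmem
  have e : (t : G) = h.val * y * h.val⁻¹ := congrArg Subtype.val ht
  rw [← e]
  exact t.2

end Cfsg.Agent.ChevPG
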