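import Cfsg.Agent.EqLemmas
import Cfsg.Agent.Lib.ChevPG.Table
import Cfsg.Agent.Lib.ChevLang.Twist
import Cfsg.Agent.Lib.ChevInv.Chain

/-!
# Meaning of the computations in the Weyl group of F4
-/

set_option autoImplicit false

namespace Cfsg.Agent.ChevPG

open Cfsg.Lie Cfsg.Lie.ChevalleyDatum Cfsg.Agent.Chev Cfsg.Agent.ChevBN
open Cfsg.Agent.ChevLang (pev peq pprod wl colV stepV)

/-- A list matrix. -/
def toM (a : List (List ℤ)) : Matrix (Fin 4) (Fin 4) ℤ := fun i j => ent a i.val j.val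

theorem ent_mk (g : ℕ → ℕ → ℤ) {i j : ℕ} (hi : i < 4) (hj : j < 4) :
    ent ((List.range 4).map fun i => (List.range 4).map fun j => g i j) i j = g i j := by
  simp [ent, hi, hj]

theorem toM_mulS (a b : List (List ℤ)) : toM (mulS a b) = toM a * toM b := by
  ext i j
  simp only [toM, mulS, ent_mk _ i.isLt j.isLt, Matrix.mul_apply, Fin.sum_univ_four]
  rfl

theorem toM_idS : toM idS = 1 := by
  ext i j
  fin_cases i <;> fin_cases j <;> rfl

theorem det_fin_four {R : Type*} [CommRing R] (A : Matrix (Fin 4) (Fin 4) R) :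
    A.det =
      A 0 0 * (A 1 1 * (A 2 2 * A 3 3 - A 2 3 * A 3 2) - A 1 2 * (A 2 1 * A 3 3 - A 2 3 * A 3 1) +
          A 1 3 * (A 2 1 * A 3 2 - A 2 2 * A 3 1)) -
        A 0 1 * (A 1 0 * (A 2 2 * A 3 3 - A 2 3 * A 3 2) - A 1 2 * (A 2 0 * A 3 3 - A 2 3 * A 3 0) +
          A 1 3 * (A 2 0 * A 3 2 - A 2 2 * A 3 0)) +
        A 0 2 * (A 1 0 * (A 2 1 * A 3 3 - A 2 3 * A 3 1) - A 1 1 * (A 2 0 * A 3 3 - A 2 3 * A 3 0) +
          A 1 3 * (A 2 0 * A 3 1 - A 2 1 * A 3 0)) -
        A 0 3 * (A 1 0 * (A 2 1 * A 3 2 - A 2 2 * A 3 1) - A 1 1 * (A 2 0 * A 3 2 - A 2 2 * A 3 0) +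
          A 1 2 * (A 2 0 * A 3 1 - A 2 1 * A 3 0)) := by
  rw [Matrix.det_succ_row_zero, Fin.sum_univ_four]
  simp only [Matrix.det_fin_three, Matrix.submatrix_apply]
  simp [Fin.succAbove]
  ring

theorem d4_eq (a : List (List ℤ)) : d4 a = (toM a).det := by
  rw [det_fin_four]
  rfl

theorem pev_charS (a : List (List ℤ)) (q : ℤ) :
    pev q (charS a) = (q • (1 : Matrix (Fin 4) (Fin 4) ℤ) - toM a).det := by
  have e : ∀ i j : Fin 4, (q • (1 : Matrix (Fin 4) (Fin 4) ℤ) - toM a) i j =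
      (if i.val = j.val then q else 0) - ent a i.val j.val := fun i j => by
    simp only [Matrix.sub_apply, Matrix.smul_apply, Matrix.one_apply, smul_eq_mul, mul_ite, mul_one, mul_zero,
      toM, Fin.val_inj]
  rw [det_fin_four]
  simp only [e, Fin.val_zero, Fin.val_one, Fin.val_two, show ((3 : Fin 4) : ℕ) = 3 from rfl, if_true,
    Nat.zero_ne_one, Nat.one_ne_zero, show (0 : ℕ) ≠ 2 by decide, show (0 : ℕ) ≠ 3 by decide,
    show (1 : ℕ) ≠ 2 by decide, show (1 : ℕ) ≠ 3 by decide, show (2 : ℕ) ≠ 0 by decide, show (2 : ℕ) ≠ 1 by decide,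
    show (2 : ℕ) ≠ 3 by decide, show (3 : ℕ) ≠ 0 by decide, show (3 : ℕ) ≠ 1 by decide, show (3 : ℕ) ≠ 2 by decide,
    if_false, charS, d4, d3, d2, pev]
  ring

theorem shape_spec {a : List (List ℤ)} {ds : List ℕ} (h : shape a = some ds) (q : ℤ) :
    ds ∈ shapes ∧ (q • (1 : Matrix (Fin 4) (Fin 4) ℤ) - toM a).det = (ds.map fun d => pev q (phi d)).prod := by
  have h' : shapes.find? (fun ds => peq (charS a) (pprod (ds.map phi))) = some ds := h
  refine ⟨List.mem_of_find?_eq_some h', ?_⟩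
  rw [← pev_charS, ChevLang.pev_of_peq (List.find?_some (p := fun ds : List ℕ => peq (charS a) (pprod (ds.map phi))) h') q,
    ChevLang.pev_pprod, List.map_map]
  rfl

/-- A word on numbers as a word in the fundamental reflections. -/
def wf (l : List ℕ) : List (Fin chevF4.rank) :=
  l.filterMap fun i => if h : i < chevF4.rank then some ⟨i, h⟩ else none

theorem wf_append (l l' : List ℕ) : wf (l ++ l') = wf l ++ wf l' := List.filterMap_append

theorem cartan_simple_eq :
    ∀ j k : Fin 4, chevF4.cartan j.val (chevF4.simple k.val) = (cmat.getD k.val []).getD j.val 0 := by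
  decide +kernel

theorem stepV_eq {k : ℕ} (hk : k < 4) (v : List ℤ) : stepV chevF4 k v = stepS k v := by
  simp only [stepV, stepS]
  rw [show chevF4.rank = 4 from rfl]
  refine List.map_congr_left fun i _ => ?_
  congr 2
  refine congrArg List.sum ?_
  refine List.map_congr_left fun j hj => ?_
  rw [cartan_simple_eq ⟨j, List.mem_range.1 hj⟩ ⟨k, hk⟩]

theorem colV_wf (l : List ℕ) (hl : ∀ k ∈ l, k < 4) (i : ℕ) : colV chevF4 (wf l) i = colS l i := by
  induction l with
  | nil => rfl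
  | cons k l ih =>
    have hk : k < chevF4.rank := hl k (by simp)
    have e : wf (k :: l) = ⟨k, hk⟩ :: wf l := by
      rw [wf, List.filterMap_cons, dif_pos hk]
      rfl
    rw [e]
    show stepV chevF4 k (colV chevF4 (wf l) i) = stepS k (colS l i)
    rw [ih fun k' hk' => hl k' (List.mem_cons_of_mem _ hk'), stepV_eq (hl k (by simp))]

theorem ent_matS (l : List ℕ) {i j : ℕ} (hi : i < 4) (hj : j < 4) : ent (matS l) j i = (colS l i).getD j 0 := by
  simp [ent, matS, hi, hj]

theorem matS_spec (hD : Good chevF4) (l : List ℕ) (hl : ∀ k ∈ l, k < 4) (i : Fin 4) {r : ℕ}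
    (hr : r < chevF4.nroots) :
    ∑ j : Fin 4, toM (matS l) j i * chevF4.cartan j.val (wl chevF4 (wf l) r) = chevF4.cartan i.val r := by
  have := ChevLang.colV_spec hD rootsF4 (wf l) i hr
  rw [colV_wf l hl] at this
  refine Eq.trans ?_ this
  exact Finset.sum_congr rfl fun j _ => by rw [toM, ent_matS l i.isLt j.isLt]

theorem words_lt : ∀ j : Fin 4, ∀ k ∈ ChevInv.TabF4w.cert.words.getD j.val [], k < 4 := by decide +kernel

theorem wordN_lt {w : List ℕ} (hw : ∀ j ∈ w, j < 4) : ∀ k ∈ wordN w, k < 4 := by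
  intro k hk
  obtain ⟨j, hj, hkj⟩ := List.mem_flatMap.1 hk
  exact words_lt ⟨j, hw j hj⟩ k hkj

theorem wordOf_eq (w : List ℕ) : ChevInv.TabF4w.cert.wordOf chevF4 w = wf (wordN w) := by
  induction w with
  | nil => rfl
  | cons j w ih =>
    show ChevInv.TabF4w.cert.word chevF4 j ++ ChevInv.TabF4w.cert.wordOf chevF4 w =
      wf (ChevInv.TabF4w.cert.words.getD j [] ++ wordN w)
    rw [ih, wf_append]
    rfl

open ChevInv in
theorem prods_spec {C : InvCert} {D : ChevalleyDatum} {M : List (List ℤ)} {deg : List ℕ} (hD : Good D)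
    (hR : Roots D M 1) (hC : InvOK C D M deg) :
    ∀ k ≤ D.rank, (∀ w ∈ prods C k, ∀ j ∈ w, j < k) ∧
      ∀ v ∈ chainGrp hD C k, ∃ w ∈ prods C k, pw hD (C.wordOf D w) = v := by
  intro k
  induction k with
  | zero =>
    intro _
    refine ⟨by simp [prods], fun v hv => ⟨[], by simp [prods], ?_⟩⟩
    have h0 : chainGrp hD C 0 = ⊥ := by
      rw [chainGrp, Subgroup.closure_eq_bot_iff]
      rintro _ ⟨j, hj, -⟩
      exact absurd hj (Nat.not_lt_zero j)
    rw [h0, Subgroup.mem_bot] at hv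
    rw [hv]
    rfl
  | succ k ih =>
    intro hk
    obtain ⟨ih1, ih2⟩ := ih (by omega)
    have hrep := (level_facts hC (show k < D.rank by omega)).2.2.1
    refine ⟨fun w hw j hj => ?_, fun v hv => ?_⟩
    · simp only [prods, List.mem_flatMap, List.mem_map] at hw
      obtain ⟨r, hr, w', hw', rfl⟩ := hw
      obtain ⟨a, ha, rfl⟩ := List.mem_iff_getElem.1 hr
      rcases List.mem_append.1 hj with hj | hj
      · have := (hrep ⟨a, ha⟩).1 j (by rw [List.getD_eq_getElem _ []]; exact hj)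
        omega
      · have := ih1 w' hw' j hj
        omega
    · obtain ⟨e, he⟩ := chain_bijective hD hR hC (show k < D.rank by omega)
      obtain ⟨⟨a, h⟩, hp⟩ := e.surjective ⟨v, hv⟩
      obtain ⟨w, hw, ew⟩ := ih2 h.val h.2
      refine ⟨(lev C k).reps.getD a.val [] ++ w, ?_, ?_⟩
      · simp only [prods, List.mem_flatMap, List.mem_map]
        exact ⟨_, by rw [List.getD_eq_getElem _ _ a.isLt]; exact List.getElem_mem a.isLt, w, hw, rfl⟩
      · have e2 : (e (a, h)).val = v := congrArg Subtype.val hp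
        rw [← e2, he]
        show pw hD (C.wordOf D _) = rep hD C k a.val * h.val
        rw [← ew, InvCert.wordOf, List.flatMap_append, pw_append]
        rfl

end Cfsg.Agent.ChevPG
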