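import Cfsg.Agent.EqLemmas
import Cfsg.Agent.Lib.ChevPG.Mat
import Mathlib.FieldTheory.Finite.Basic

/-!
# Roots of the small cyclotomic polynomials and multiplicative orders
-/

set_option autoImplicit false

namespace Cfsg.Agent.ChevPG

open Cfsg.Agent.ChevLang (pev)

/-- The orders occurring in F4. -/
def degs : Finset ℕ := {1, 2, 3, 4, 6, 8, 12}

variable {r : ℕ} [Fact r.Prime] {q : ℕ}

theorem cast_ne_zero_of_prime {p : ℕ} (hp : p.Prime) (h : r ≠ p) : (p : ZMod r) ≠ 0 := by
  rw [Ne, ZMod.natCast_eq_zero_iff]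
  exact fun hd => h ((Nat.prime_dvd_prime_iff_eq Fact.out hp).1 hd)

theorem phi_cast {d : ℕ} (hd : d ∈ degs) (x : ZMod r) (q : ℤ) (hx : (q : ZMod r) = x) :
    ((pev q (phi d) : ℤ) : ZMod r) =
      if d = 1 then x - 1 else if d = 2 then x + 1 else if d = 3 then x ^ 2 + x + 1 else if d = 4 then x ^ 2 + 1
      else if d = 6 then x ^ 2 - x + 1 else if d = 8 then x ^ 4 + 1 else x ^ 4 - x ^ 2 + 1 := by
  subst hx
  simp only [degs, Finset.mem_insert, Finset.mem_singleton] at hd
  rcases hd with rfl | rfl | rfl | rfl | rfl | rfl | rfl <;> simp [phi, pev] <;> ring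

/-- An element of given order is a root of the cyclotomic polynomial. -/
theorem phi_root {d : ℕ} (hd : d ∈ degs) (h : orderOf (q : ZMod r) = d) :
    (r : ℤ) ∣ pev (q : ℤ) (phi d) := by
  rw [← ZMod.intCast_zmod_eq_zero_iff_dvd, phi_cast hd (q : ZMod r) (q : ℤ) (by simp)]
  set x := (q : ZMod r)
  have hpow : x ^ d = 1 := h ▸ pow_orderOf_eq_one x
  have hne : ∀ k, 0 < k → k < d → x ^ k ≠ 1 := fun k hk0 hk =>
    pow_ne_one_of_lt_orderOf hk0.ne' (h.symm ▸ hk)
  simp only [degs, Finset.mem_insert, Finset.mem_singleton] at hd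
  rcases hd with rfl | rfl | rfl | rfl | rfl | rfl | rfl <;> simp only [if_true, if_false, OfNat.ofNat_ne_one,
    Nat.reduceEqDiff]
  · rw [pow_one] at hpow
    rw [hpow, sub_self]
  · have e : (x - 1) * (x + 1) = 0 := by linear_combination hpow
    have := hne 1 (by norm_num) (by norm_num)
    rw [pow_one] at this
    exact (mul_eq_zero.1 e).resolve_left (sub_ne_zero.2 this)
  · have e : (x - 1) * (x ^ 2 + x + 1) = 0 := by linear_combination hpow
    have := hne 1 (by norm_num) (by norm_num)
    rw [pow_one] at this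
    exact (mul_eq_zero.1 e).resolve_left (sub_ne_zero.2 this)
  · have e : (x ^ 2 - 1) * (x ^ 2 + 1) = 0 := by linear_combination hpow
    exact (mul_eq_zero.1 e).resolve_left (sub_ne_zero.2 (hne 2 (by norm_num) (by norm_num)))
  · have e : (x ^ 3 - 1) * ((x + 1) * (x ^ 2 - x + 1)) = 0 := by linear_combination hpow
    have h3 := (mul_eq_zero.1 e).resolve_left (sub_ne_zero.2 (hne 3 (by norm_num) (by norm_num)))
    refine (mul_eq_zero.1 h3).resolve_left fun h1 => hne 2 (by norm_num) (by norm_num) ?_
    linear_combination (x - 1) * h1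
  · have e : (x ^ 4 - 1) * (x ^ 4 + 1) = 0 := by linear_combination hpow
    exact (mul_eq_zero.1 e).resolve_left (sub_ne_zero.2 (hne 4 (by norm_num) (by norm_num)))
  · have e : (x ^ 6 - 1) * ((x ^ 2 + 1) * (x ^ 4 - x ^ 2 + 1)) = 0 := by linear_combination hpow
    have h6 := (mul_eq_zero.1 e).resolve_left (sub_ne_zero.2 (hne 6 (by norm_num) (by norm_num)))
    refine (mul_eq_zero.1 h6).resolve_left fun h1 => hne 4 (by norm_num) (by norm_num) ?_
    linear_combination (x ^ 2 - 1) * h1

/-- A root of a cyclotomic polynomial has the given order, for primes at least five. -/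
theorem order_of_phi_root (h5 : 5 ≤ r) {d : ℕ} (hd : d ∈ degs) (h : (r : ℤ) ∣ pev (q : ℤ) (phi d)) :
    orderOf (q : ZMod r) = d := by
  rw [← ZMod.intCast_zmod_eq_zero_iff_dvd, phi_cast hd (q : ZMod r) (q : ℤ) (by simp)] at h
  set x := (q : ZMod r)
  have h2 : (2 : ZMod r) ≠ 0 := by simpa using cast_ne_zero_of_prime (r := r) Nat.prime_two (by omega)
  have h3 : (3 : ZMod r) ≠ 0 := by simpa using cast_ne_zero_of_prime (r := r) Nat.prime_three (by omega)
  have key : ∀ n, 0 < n → x ^ n = 1 → (∀ m, 0 < m → m < n → m ∣ n → x ^ m ≠ 1) → orderOf x = n := by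
    intro n hn hp hm
    have hdvd := orderOf_dvd_of_pow_eq_one hp
    by_contra hne
    exact hm _ (orderOf_pos_iff.2 (isOfFinOrder_iff_pow_eq_one.2 ⟨n, hn, hp⟩))
      (lt_of_le_of_ne (Nat.le_of_dvd hn hdvd) hne) hdvd (pow_orderOf_eq_one x)
  simp only [degs, Finset.mem_insert, Finset.mem_singleton] at hd
  rcases hd with rfl | rfl | rfl | rfl | rfl | rfl | rfl <;> simp only [if_true, if_false, OfNat.ofNat_ne_one,
    Nat.reduceEqDiff] at h
  · exact orderOf_eq_one_iff.2 (sub_eq_zero.1 h)
  · refine key 2 (by norm_num) (by linear_combination (x - 1) * h) fun m h0 hm hdiv he => ?_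
    interval_cases m
    exact h2 (by linear_combination h - he)
  · refine key 3 (by norm_num) (by linear_combination (x - 1) * h) fun m h0 hm hdiv he => ?_
    interval_cases m <;> norm_num at hdiv
    exact h3 (by linear_combination h - (x + 2) * he)
  · refine key 4 (by norm_num) (by linear_combination (x ^ 2 - 1) * h) fun m h0 hm hdiv he => ?_
    interval_cases m <;> norm_num at hdiv
    · exact h2 (by linear_combination h - (x + 1) * he)
    · exact h2 (by linear_combination h - he)
  · refine key 6 (by norm_num) (by linear_combination (x ^ 3 - 1) * (x + 1) * h) fun m h0 hm hdiv he => ?_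
    interval_cases m <;> norm_num at hdiv
    · exact one_ne_zero (α := ZMod r) (by linear_combination h - x * he)
    · exact h3 (by linear_combination (x + 2) * h - (x + 1) * he)
    · exact h2 (by linear_combination (x + 1) * h - he)
  · refine key 8 (by norm_num) (by linear_combination (x ^ 4 - 1) * h) fun m h0 hm hdiv he => ?_
    interval_cases m <;> norm_num at hdiv
    · exact h2 (by linear_combination h - (x ^ 3 + x ^ 2 + x + 1) * he)
    · exact h2 (by linear_combination h - (x ^ 2 + 1) * he)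
    · exact h2 (by linear_combination h - he)
  · refine key 12 (by norm_num) (by linear_combination (x ^ 6 - 1) * (x ^ 2 + 1) * h) fun m h0 hm hdiv he => ?_
    interval_cases m <;> norm_num at hdiv
    · exact one_ne_zero (α := ZMod r) (by linear_combination h - (x ^ 3 + x ^ 2) * he)
    · exact one_ne_zero (α := ZMod r) (by linear_combination h - x ^ 2 * he)
    · exact h2 (by linear_combination (x ^ 2 + 1) * h - (x ^ 3 + 1) * he)
    · exact h3 (by linear_combination (x ^ 2 + 2) * h - (x ^ 2 + 1) * he)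
    · exact h2 (by linear_combination (x ^ 2 + 1) * h - he)

theorem zmod_three : ∀ x : ZMod 3, x ^ 4 + 1 ≠ 0 ∧ x ^ 4 - x ^ 2 + 1 ≠ 0 := by decide

/-- For the two largest orders the prime three is no exception. -/
theorem order_of_phi_root' (h2 : r ≠ 2) {d : ℕ} (hd : d = 8 ∨ d = 12) (h : (r : ℤ) ∣ pev (q : ℤ) (phi d)) :
    orderOf (q : ZMod r) = d := by
  by_cases h3 : r = 3
  · subst h3
    exfalso
    rw [← ZMod.intCast_zmod_eq_zero_iff_dvd,
      phi_cast (by rcases hd with rfl | rfl <;> decide) (q : ZMod 3) (q : ℤ) (by simp)] at h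
    have hz := zmod_three
    rcases hd with rfl | rfl <;> norm_num at h
    · exact (hz _).1 h
    · exact (hz _).2 h
  · have h5 : 5 ≤ r := by
      have h1 := (Fact.out : r.Prime).two_le
      have : r ≠ 4 := by rintro rfl; exact absurd (Fact.out : Nat.Prime 4) (by norm_num)
      omega
    exact order_of_phi_root h5 (by rcases hd with rfl | rfl <;> decide) h

theorem order_mem_degs {d : ℕ} (hd : d ∈ [2, 6, 8, 12]) (h : (q : ZMod r) ^ d = 1) :
    orderOf (q : ZMod r) ∈ degs := by
  have hdvd := orderOf_dvd_of_pow_eq_one h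
  have hmem : orderOf (q : ZMod r) ∈ Nat.divisors d := Nat.mem_divisors.2 ⟨hdvd, by
    rintro rfl
    simp at hd⟩
  have hsub : ∀ d ∈ [2, 6, 8, 12], Nat.divisors d ⊆ degs := by decide
  exact hsub d hd hmem

theorem order_dvd_pred (hq : ¬ r ∣ q) : orderOf (q : ZMod r) ∣ r - 1 :=
  orderOf_dvd_of_pow_eq_one (ZMod.pow_card_sub_one_eq_one
    (fun h => hq ((ZMod.natCast_eq_zero_iff q r).1 h)))

end Cfsg.Agent.ChevPG
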