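import Cfsg.Agent.EqLemmas
import Cfsg.Agent.Lib.ChevPG.Mat
import Cfsg.Agent.Lib.ChevInv.ChkF4w
import Cfsg.Agent.Lib.ChevInv.Descent
import Cfsg.Agent.Lib.Chev.DataF4

/-!
# Fixed elements conjugate into the torus of F4

`exists_act_eq`: a fixed element conjugate to a toral one gives a Weyl group element carrying the parameters to their
images. `regular_diag`: centralisers of the toral elements of the two regular classes.
-/

set_option autoImplicit false

namespace Cfsg.Agent.ChevPG

open Cfsg.Lie Cfsg.Lie.ChevalleyDatum Cfsg.Agent.Chev Cfsg.Agent.ChevBN Cfsg.Agent.ChevSt Cfsg.Agent.ChevFixed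
open Cfsg.Agent.ChevLang (wl)
open Cfsg.Agent.ChevOrder (act torusHom)

/-- The datum is good. -/
theorem hD4 : Good chevF4 := Chev.DataF4.good

variable {K : Type*} [Field K]

theorem torus_inj : Function.Injective (torusHom chevF4 K) :=
  (injective_iff_map_eq_one _).2 fun c hc => funext fun i => by
    simpa using ChevLang.exists_chi_one hD4 rootsF4 hc i

theorem orderOf_torus (c : Fin chevF4.rank → Kˣ) : orderOf (torusHom chevF4 K c) = orderOf c :=
  orderOf_injective _ torus_inj _

/-- The element of a word of the table. -/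
def eltM (w : List ℕ) : Matrix (Fin chevF4.rank) (Fin chevF4.rank) ℤ := toM (matS (wordN w))

open ChevInv in
theorem exists_elt (l : List (Fin chevF4.rank)) :
    ∃ w ∈ elts, (∀ j ∈ w, j < 4) ∧ pw hD4 (wf (wordN w)) = pw hD4 l := by
  have hC := ChevInv.TabF4w.ok
  have hmem : pw hD4 l ∈ stab hD4 TabF4w.cert := ⟨⟨l, rfl⟩, fun r => by
    have h : ∀ q, TabF4w.cert.par chevF4 q = 0 := fun q =>
      Finset.sum_eq_zero fun i _ => by
        rw [show TabF4w.cert.bits.getD i.val 0 = 0 from (by decide : ∀ i : Fin 4,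
          ([0, 0, 0, 0] : List ℤ).getD i.val 0 = 0) i, zero_mul]
    rw [h, h]⟩
  rw [stab_eq_closure hD4 rootsF4 hC] at hmem
  obtain ⟨h1, h2⟩ := prods_spec hD4 rootsF4 hC 4 le_rfl
  obtain ⟨w, hw, e⟩ := h2 _ hmem
  exact ⟨w, hw, h1 w hw, by rw [← wordOf_eq, e]⟩

theorem eltM_spec {w : List ℕ} (hw : ∀ j ∈ w, j < 4) {l : List (Fin chevF4.rank)}
    (e : ChevInv.pw hD4 (wf (wordN w)) = ChevInv.pw hD4 l) (i : Fin chevF4.rank) {r : ℕ} (hr : r < chevF4.nroots) :
    ∑ j : Fin chevF4.rank, eltM w j i * chevF4.cartan j.val (wl chevF4 l r) = chevF4.cartan i.val r := by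
  have e2 : wl chevF4 (wf (wordN w)) r = wl chevF4 l r := by
    show ChevInv.wlist chevF4 (wf (wordN w)) r = ChevInv.wlist chevF4 l r
    rw [← ChevInv.pw_apply hD4 (wf (wordN w)) ⟨r, hr⟩, e, ChevInv.pw_apply hD4 l ⟨r, hr⟩]
  rw [← e2]
  exact matS_spec hD4 _ (wordN_lt hw) i hr

theorem nw_conj_word (l : List ℕ) (hl : ∀ k ∈ l, k < 4) (c : Fin chevF4.rank → Kˣ) :
    (chevRGD hD4 rootsF4 K).nw (wf l) * torusHom chevF4 K c * ((chevRGD hD4 rootsF4 K).nw (wf l))⁻¹ =
      torusHom chevF4 K (act (toM (matS l)) c) :=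
  ChevLang.nw_conj_torusHom hD4 rootsF4 (wf l) _ (fun i _ hr => matS_spec hD4 l hl i hr) c

/-- A fixed element conjugate into the torus gives an element of the Weyl group. -/
theorem exists_act_eq (σ : K →+* K) {g x : GL chevF4.Idx K} (hg : g ∈ chevF4.group K) (hx : mapG chevF4 σ x = x)
    {c : Fin chevF4.rank → Kˣ} (e : g * x * g⁻¹ = torusHom chevF4 K c) :
    ∃ w ∈ elts, (∀ j ∈ w, j < 4) ∧ act (eltM w) c = fun i => Units.map σ.toMonoidHom (c i) := by
  set R := chevRGD hD4 rootsF4 K
  set t := torusHom chevF4 K c with ht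
  set t' := torusHom chevF4 K (fun i => Units.map σ.toMonoidHom (c i)) with ht'
  have htH : ∀ d, torusHom chevF4 K d ∈ R.H := fun d => (ChevOrder.torusHom_range (F := K) hD4).le ⟨d, rfl⟩
  set h := mapG chevF4 σ g * g⁻¹ with hh
  have hcomm : h * t = t' * h := by
    have e' : t' = mapG chevF4 σ g * x * (mapG chevF4 σ g)⁻¹ := by
      rw [ht', ← mapG_torusHom hD4, ← ht, ← e, map_mul, map_mul, map_inv, hx]
    rw [hh, e', ← e]
    group
  have hhG : h ∈ R.G := by
    rw [chev_G hD4 rootsF4]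
    exact mul_mem (mapG_group_le hD4 σ ⟨g, hg, rfl⟩) (inv_mem hg)
  obtain ⟨b, hb, l, u, hu, eh⟩ := R.exists_normalForm hhG
  set m := R.nw l * t * (R.nw l)⁻¹ with hm
  have hmH : m ∈ R.H := R.nw_conj_H l (htH c)
  have hu' : t⁻¹ * u * t ∈ R.Uminus l := by
    have := R.H_conj_span _ (inv_mem (htH c)) _ hu
    rw [inv_inv] at this
    exact this
  have e1 : b * m * R.nw l * (t⁻¹ * u * t) = t' * b * R.nw l * u := by
    rw [hm, mul_assoc t' b, mul_assoc t' (b * R.nw l), ← eh, ← hcomm, eh]
    group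
  obtain ⟨eb, -⟩ := R.normalForm_unique (k := 1) (one_mem _) (one_mul _).symm
    (mul_mem hb (R.H_le_B hmH)) (mul_mem (R.H_le_B (htH _)) hb) hu' hu e1
  obtain ⟨v, hv, h0, hh0, rfl⟩ := R.exists_B hb
  have e2 : v * m = (t' * v * t'⁻¹) * t' := by
    refine mul_right_cancel (b := h0) ?_
    calc v * m * h0 = v * (h0 * m) := by rw [mul_assoc, diag_commute hD4 hmH hh0]
      _ = t' * (v * h0) := by rw [← mul_assoc, eb]
      _ = _ := by group
  have hv' : t' * v * t'⁻¹ ∈ R.Upos := R.H_conj_span _ (htH _) _ hv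
  have e3 : (t' * v * t'⁻¹)⁻¹ * v = t' * m⁻¹ := by
    rw [inv_mul_eq_iff_eq_mul, ← mul_assoc, ← e2, mul_inv_cancel_right]
  have e4 : t' = m := by
    rw [← mul_inv_eq_one, ← Subgroup.mem_bot, ← R.U_inf_H]
    exact ⟨e3 ▸ R.Upos.mul_mem (R.Upos.inv_mem hv') hv, R.H.mul_mem (htH _) (R.H.inv_mem hmH)⟩
  obtain ⟨w, hw, hw4, ew⟩ := exists_elt l
  refine ⟨w, hw, hw4, torus_inj ?_⟩
  rw [← ChevLang.nw_conj_torusHom hD4 rootsF4 l (eltM w) (fun i _ hr => eltM_spec hw4 ew i hr) c]
  exact e4.symm

section Act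

variable {G : Type*} [CommGroup G] {n : ℕ}

theorem zpow_det_eq_one (B : Matrix (Fin n) (Fin n) ℤ) (c : Fin n → G) (h : act B c = 1) : c ^ B.det = 1 := by
  have e := congrArg (act B.adjugate) h
  rw [map_one, ← ChevOrder.act_mul, Matrix.adjugate_mul, ChevLang.act_smul, ChevOrder.act_one] at e
  exact e

theorem act_char (q : ℕ) (A : Matrix (Fin n) (Fin n) ℤ) (c : Fin n → G) (h : act A c = c ^ q) :
    act ((q : ℤ) • 1 - A) c = 1 := by
  have e : act ((q : ℤ) • 1) c = act ((q : ℤ) • 1 - A) c * act A c := by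
    rw [← ChevLang.act_add, sub_add_cancel]
  rw [ChevLang.act_smul, ChevOrder.act_one, h, zpow_natCast] at e
  exact right_eq_mul.1 e

theorem dvd_det_of_act (q : ℕ) (A : Matrix (Fin n) (Fin n) ℤ) (c : Fin n → G) (h : act A c = c ^ q) :
    (orderOf c : ℤ) ∣ ((q : ℤ) • (1 : Matrix (Fin n) (Fin n) ℤ) - A).det :=
  orderOf_dvd_iff_zpow_eq_one.2 (zpow_det_eq_one _ c (act_char q A c h))

end Act

section Regular

variable {G : Type*} [CommGroup G]

/-- A character of the parameters. -/
def pr4 (f : List ℤ) (c : Fin 4 → G) : G := ∏ i : Fin 4, c i ^ f.getD i.val 0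

theorem pr4_pow (f : List ℤ) (c : Fin 4 → G) (q : ℕ) : pr4 f (c ^ q) = pr4 f c ^ q := by
  rw [pr4, pr4, ← Finset.prod_pow]
  exact Finset.prod_congr rfl fun i _ => by
    rw [Pi.pow_apply, ← zpow_natCast (c i), ← zpow_natCast (c i ^ _), ← zpow_mul, ← zpow_mul, mul_comm]

theorem pr4_rowMul (f : List ℤ) (a : List (List ℤ)) (c : Fin 4 → G) :
    pr4 (rowMul f a) c = pr4 f (act (toM a) c) := by
  have e : ∀ i : Fin 4, (rowMul f a).getD i.val 0 = ∑ j : Fin 4, f.getD j.val 0 * toM a j i := fun i => by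
    rw [Fin.sum_univ_four, rowMul, List.getD_eq_getElem _ _ (by simp [i.isLt]), List.getElem_map,
      List.getElem_range]
    rfl
  simp only [pr4, e, ChevOrder.act_apply, ChevOrder.zpow_sum', ← Finset.prod_zpow, ← zpow_mul]
  rw [Finset.prod_comm]
  exact Finset.prod_congr rfl fun j _ => Finset.prod_congr rfl fun i _ => by rw [mul_comm]

theorem krylov_kills {a : List (List ℤ)} {q : ℕ} {c : Fin 4 → G} (ha : act (toM a) c = c ^ q) {f : List ℤ}
    (hf : pr4 f c = 1) : (orderOf c : ℤ) ∣ d4 (krylov a f) := by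
  rw [d4_eq]
  refine orderOf_dvd_iff_zpow_eq_one.2 (zpow_det_eq_one _ c (funext fun j => ?_))
  have h : ∀ f : List ℤ, pr4 f c = 1 → pr4 (rowMul f a) c = 1 := fun f hf => by
    rw [pr4_rowMul, ha, pr4_pow, hf, one_pow]
  rw [ChevOrder.act_apply, Pi.one_apply]
  have hrow : pr4 ((krylov a f).getD j.val []) c = 1 := by
    fin_cases j
    · exact hf
    · exact h _ hf
    · exact h _ (h _ hf)
    · exact h _ (h _ (h _ hf))
  exact hrow

theorem prime_le_of_good {d : ℤ} (hd : good d = true) {s : ℕ} (hs : s.Prime) (h : (s : ℤ) ∣ d) : s ≤ 11 := by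
  simp only [good, Bool.and_eq_true, bne_iff_ne, beq_iff_eq, ne_eq] at hd
  have h1 : (s : ℤ) ∣ ((2310 ^ 10 : ℕ) : ℤ) := by
    have := h.trans (Int.dvd_of_emod_eq_zero hd.2)
    exact_mod_cast this
  have h2 : s ∣ 2 * 3 * 5 * 7 * 11 := hs.dvd_of_dvd_pow (Int.natCast_dvd_natCast.1 h1)
  simp only [hs.dvd_mul, Nat.prime_dvd_prime_iff_eq hs (by norm_num : Nat.Prime 2),
    Nat.prime_dvd_prime_iff_eq hs (by norm_num : Nat.Prime 3),
    Nat.prime_dvd_prime_iff_eq hs (by norm_num : Nat.Prime 5),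
    Nat.prime_dvd_prime_iff_eq hs (by norm_num : Nat.Prime 7),
    Nat.prime_dvd_prime_iff_eq hs (by norm_num : Nat.Prime 11)] at h2
  omega

end Regular

theorem chi_eq_pr4 (c : Fin chevF4.rank → Kˣ) (r : ℕ) : ChevOrder.chi c r = pr4 (rootF r) c := by
  refine Finset.prod_congr rfl fun (i : Fin 4) _ => ?_
  rw [rootF, List.getD_eq_getElem _ _ (by simp [i.isLt]), List.getElem_map, List.getElem_range]

/-- The centraliser of a regular toral element is diagonal. -/
theorem regular_diag [Finite K] {a0 : List (List ℤ)} (hreg : regOK a0 = true) (hstab : stabOK a0 = true) {q : ℕ}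
    {c : Fin chevF4.rank → Kˣ} (hc : act (toM a0) c = c ^ q) {s : ℕ} (hs : s.Prime) (hs11 : 11 < s)
    (hord : orderOf c = s) {g : GL chevF4.Idx K} (hg : g ∈ chevF4.group K)
    (hcomm : g * torusHom chevF4 K c = torusHom chevF4 K c * g) : g ∈ chevF4.diagonalSubgroup K := by
  have kill : ∀ f : List ℤ, pr4 f c = 1 → (s : ℤ) ∣ d4 (krylov a0 f) := fun f hf =>
    hord ▸ krylov_kills hc hf
  refine ChevLang.mem_diagonal_of_regular hD4 rootsF4
    ((ChevOrder.torusHom_range (F := K) hD4).le ⟨c, rfl⟩) (χ := ChevOrder.chi c) (ChevOrder.coe_torusHom c)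
    (fun r hr h1 => ?_) (fun l hl => ?_) hg hcomm
  · rw [chi_eq_pr4] at h1
    have := prime_le_of_good (List.all_eq_true.1 hreg r (List.mem_range.2 hr)) hs (kill _ h1)
    omega
  · obtain ⟨w, hw, hw4, ew⟩ := exists_elt l
    have hA := fun i r hr => eltM_spec hw4 ew i (r := r) hr
    have hfix : act (eltM w) c = c := by
      refine torus_inj (Units.ext ?_)
      rw [ChevOrder.coe_torusHom, ChevOrder.coe_torusHom, dg, dg]
      congr 1
      funext z
      rcases z with i | z
      · rfl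
      show ((ChevOrder.chi (act (eltM w) c) z.val : Kˣ) : K) = ((ChevOrder.chi c z.val : Kˣ) : K)
      obtain ⟨r, rfl⟩ := (ChevInv.pw hD4 l).surjective z
      congr 1
      rw [ChevInv.pw_apply]
      show ChevOrder.chi (act (eltM w) c) (wl chevF4 l r.val) = ChevOrder.chi c (wl chevF4 l r.val)
      rw [hl r.val r.isLt]
      simp only [ChevOrder.chi, ChevOrder.act_apply, ← Finset.prod_zpow, ← zpow_mul]
      rw [Finset.prod_comm]
      refine Finset.prod_congr rfl fun i _ => ?_
      rw [← ChevOrder.zpow_sum', hA i r.val r.isLt]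
    have hck := List.all_eq_true.1 hstab w hw
    intro r hr
    by_cases hid : matS (wordN w) == idS
    · simp only [hid, if_true, beq_iff_eq] at hck
      subst hck
      show ChevInv.wlist chevF4 l r = r
      rw [← ChevInv.pw_apply hD4 l ⟨r, hr⟩, ← ew]
      rfl
    · simp only [hid, if_false, Bool.false_eq_true] at hck
      have hdvd : (s : ℤ) ∣ ((((fixF (matS (wordN w))).map fun f => d4 (krylov a0 f)).foldr
          (fun d g => Int.gcd d g) 0 : ℕ) : ℤ) := by
        set A := matS (wordN w) with hA'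
        have hrow : ∀ i : Fin 4, pr4 ((List.range 4).map fun j => ent A i.val j - ent idS i.val j) c = 1 := fun i => by
          have e : act (eltM w - 1) c = 1 := by
            have := ChevLang.act_add (eltM w - 1) 1 c
            rw [sub_add_cancel, hfix, ChevOrder.act_one] at this
            exact right_eq_mul.1 this
          have e' : ∏ j : Fin chevF4.rank, c j ^ (eltM w - 1) i j = 1 :=
            (ChevOrder.act_apply _ c i).symm.trans (congrFun e i)
          refine Eq.trans (Finset.prod_congr rfl fun (j : Fin 4) _ => ?_) e' 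
          rw [List.getD_eq_getElem _ _ (by simp [j.isLt]), List.getElem_map, List.getElem_range]
          congr 1
          show _ = toM A i j - (1 : Matrix (Fin 4) (Fin 4) ℤ) i j
          rw [← toM_idS]
          rfl
        have hall : ∀ f ∈ fixF A, pr4 f c = 1 := by
          intro f hf
          simp only [fixF, List.mem_append, List.mem_map, List.mem_range, List.mem_singleton] at hf
          rcases hf with ⟨i, hi, rfl⟩ | rfl
          · exact hrow ⟨i, hi⟩
          · have := congrArg₂ (· * ·) (hrow 0) (hrow 1)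
            simp only [mul_one, pr4, ← Finset.prod_mul_distrib, ← zpow_add] at this
            refine Eq.trans (Finset.prod_congr rfl fun j _ => ?_) this
            congr 1
            fin_cases j <;> rfl
        generalize fixF A = L at hall
        induction L with
        | nil => exact dvd_zero _
        | cons f L ih =>
          rw [List.map_cons, List.foldr_cons]
          exact Int.dvd_coe_gcd (kill f (hall f (by simp))) (ih fun f' hf' => hall f' (by simp [hf']))
      have := prime_le_of_good hck hs hdvd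
      omega

end Cfsg.Agent.ChevPG
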