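import Cfsg.Agent.EqLemmas
import Cfsg.Agent.Lib.ChevPG.Torus
import Cfsg.Agent.Lib.ChevPG.Group
import Cfsg.Agent.Lib.ChevPG.NumberTheory
import Cfsg.Agent.Lib.ChevPG.ChkA
import Cfsg.Agent.Lib.ChevPG.ChkB
import Cfsg.Agent.Lib.ChevPG.ChkC
import Cfsg.Agent.Lib.ChevOrder.Final
import Mathlib.FieldTheory.IsAlgClosed.AlgebraicClosure

/-!
# Non-adjacency in the prime graph of F4

`no_element_regular`: primes `s` with `q` of order 8 or 12 modulo `s`. `no_element_pair`: the orders 3, 4, 6.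
-/

set_option autoImplicit false

namespace Cfsg.Agent.ChevPG

open Cfsg.Lie Cfsg.Lie.ChevalleyDatum Cfsg.Agent.Chev Cfsg.Agent.ChevBN Cfsg.Agent.ChevSt Cfsg.Agent.ChevFixed
open Cfsg.Agent.ChevOrder (act torusHom)
open Cfsg.Agent.ChevLang (pev)

universe u

theorem diag_le_group {L : Type*} [Field L] : chevF4.diagonalSubgroup L ≤ chevF4.group L :=
  fun _ h => borel_le_group hD4 rootsF4 (Subgroup.mem_sup_right h)

theorem card_diag (L : Type*) [Field L] [Finite L] :
    Nat.card (chevF4.diagonalSubgroup L) = (Nat.card L - 1) ^ 4 := by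
  rw [← ChevOrder.torusHom_range hD4, ← Nat.card_congr (MonoidHom.ofInjective (torus_inj (K := L))).toEquiv,
    Nat.card_pi, Finset.prod_const, Finset.card_univ, Fintype.card_fin, Nat.card_units]
  rfl

/-- The torus has the full `r`-part of the group order. -/
theorem factorization_group {L : Type*} [Field L] [Finite L] {r : ℕ} (hr : r.Prime) (h5 : 5 ≤ r)
    (hdiv : r ∣ Nat.card L - 1) :
    (Nat.card (chevF4.group L)).factorization r = (Nat.card (chevF4.diagonalSubgroup L)).factorization r := by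
  have : Fintype L := Fintype.ofFinite L
  set Q := Nat.card L with hQ
  have hQ1 : 2 ≤ Q := Finite.one_lt_card
  have hcard := ChevOrder.card_F4 (F := L) (q := Q) (by rw [hQ, Nat.card_eq_fintype_card]) hD4
  have : Fact r.Prime := ⟨hr⟩
  have hQr : (Q : ZMod r) = 1 := by
    have := (ZMod.natCast_eq_zero_iff (Q - 1) r).2 hdiv
    rwa [Nat.cast_sub (by omega), Nat.cast_one, sub_eq_zero] at this
  have hgeo : ∀ d : ℕ, Q ^ d - 1 = (∑ i ∈ Finset.range d, Q ^ i) * (Q - 1) := fun d =>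
    (geom_sum_mul_of_one_le (show 1 ≤ Q by omega) d).symm
  have hs : ∀ d ∈ [2, 6, 8, 12], ¬ r ∣ ∑ i ∈ Finset.range d, Q ^ i := by
    intro d hd h
    rw [← ZMod.natCast_eq_zero_iff, Nat.cast_sum] at h
    simp only [Nat.cast_pow, hQr, one_pow, Finset.sum_const, Finset.card_range, nsmul_one] at h
    rw [ZMod.natCast_eq_zero_iff] at h
    have h' : ∀ d ∈ [2, 6, 8, 12], d ∣ 2 ^ 3 * 3 := by decide
    rcases hr.dvd_mul.1 (h.trans (h' d hd)) with h'' | h''
    · have := Nat.le_of_dvd (by norm_num) (hr.dvd_of_dvd_pow h'')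
      omega
    · have := Nat.le_of_dvd (by norm_num) h''
      omega
  have hm : ¬ r ∣ Q ^ 24 * (∑ i ∈ Finset.range 2, Q ^ i) * (∑ i ∈ Finset.range 6, Q ^ i) *
      (∑ i ∈ Finset.range 8, Q ^ i) * (∑ i ∈ Finset.range 12, Q ^ i) := by
    simp only [hr.dvd_mul, not_or]
    refine ⟨⟨⟨⟨fun h => ?_, hs 2 (by simp)⟩, hs 6 (by simp)⟩, hs 8 (by simp)⟩, hs 12 (by simp)⟩
    have := (ZMod.natCast_eq_zero_iff Q r).2 (hr.dvd_of_dvd_pow h)
    rw [hQr] at this
    exact one_ne_zero this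
  rw [card_diag, hcard, hgeo 2, hgeo 6, hgeo 8, hgeo 12]
  rw [show ∀ a b c d e x : ℕ, a * (b * x) * (c * x) * (d * x) * (e * x) = a * b * c * d * e * x ^ 4 from
    fun a b c d e x => by ring]
  rw [Nat.factorization_mul (fun h => hm (by rw [h]; exact dvd_zero r)) (pow_ne_zero _ (by omega)),
    Finsupp.add_apply, Nat.factorization_eq_zero_of_not_dvd hm, zero_add]

variable {F : Type u} [Field F] [Fintype F]

/-- A finite extension with roots of unity. -/
theorem exists_field {N : ℕ} (hN : (N : F) ≠ 0) :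
    ∃ L : IntermediateField F (AlgebraicClosure F), Finite L ∧ N ∣ Nat.card L - 1 := by
  have hN0 : N ≠ 0 := by rintro rfl; simp at hN
  let K := AlgebraicClosure F
  have : NeZero (N : K) := ⟨fun h => hN ((map_eq_zero (algebraMap F K)).1 (by rw [map_natCast, h]))⟩
  obtain ⟨ζ, hζ⟩ : ∃ ζ : K, IsPrimitiveRoot ζ N := by
    obtain ⟨z, hz⟩ := IsAlgClosed.exists_root (Polynomial.cyclotomic N K)
      (Polynomial.degree_cyclotomic_pos N K (Nat.pos_of_ne_zero hN0)).ne'
    exact ⟨z, Polynomial.isRoot_cyclotomic_iff.1 hz⟩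
  let L : IntermediateField F K := IntermediateField.adjoin F {ζ}
  have : FiniteDimensional F L := IntermediateField.adjoin.finiteDimensional (Algebra.IsIntegral.isIntegral ζ)
  have hfin : Finite L := Module.finite_of_finite F
  refine ⟨L, hfin, ?_⟩
  let z : L := ⟨ζ, IntermediateField.mem_adjoin_simple_self F ζ⟩
  have hz : IsPrimitiveRoot z N := IsPrimitiveRoot.of_map_of_injective (f := algebraMap L K) hζ (RingHom.injective _)
  rw [← Nat.card_units L]
  have := orderOf_dvd_natCard ((hz.isUnit hN0).unit)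
  rwa [← orderOf_units, IsUnit.unit_spec, ← hz.eq_orderOf] at this

/-- The data of an element of the group with order `N` after extension of the field. -/
theorem ext_data (L : Type u) [Field L] [Algebra F L] (x : ↥(chevF4.group F)) :
    ∃ x' ∈ chevF4.group L, orderOf x' = orderOf x ∧
      mapG chevF4 (FiniteField.frobeniusAlgHom F L).toRingHom x' = x' := by
  let f := algebraMap F L
  let j : ↥(chevF4.group F) →* GL chevF4.Idx L := (mapG chevF4 f).comp (chevF4.group F).subtype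
  refine ⟨j x, mapG_group_le hD4 f ⟨_, x.2, rfl⟩,
    orderOf_injective j (fun a b h => Subtype.ext (mapG_injective _ h)) x, ?_⟩
  show mapG chevF4 _ (mapG chevF4 f x.val) = mapG chevF4 f x.val
  rw [ChevLang.mapG_comp]
  congr 2
  exact (FiniteField.frobeniusAlgHom F L).comp_algebraMap

variable {L : Type u} [Field L] [Algebra F L]

/-- The shape of the element attached to a fixed element in the torus. -/
theorem exists_shape {g x : GL chevF4.Idx L} (hg : g ∈ chevF4.group L)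
    (hx : mapG chevF4 (FiniteField.frobeniusAlgHom F L).toRingHom x = x)
    {c : Fin chevF4.rank → Lˣ} (e : g * x * g⁻¹ = torusHom chevF4 L c) :
    ∃ w ∈ elts, (∀ j ∈ w, j < 4) ∧ act (eltM w) c = c ^ Fintype.card F ∧
      ∃ ds, shape (matS (wordN w)) = some ds ∧ ds ∈ shapes ∧
        ((orderOf x : ℕ) : ℤ) ∣ (ds.map fun d => pev (Fintype.card F : ℤ) (phi d)).prod := by
  obtain ⟨w, hw, hw4, hact⟩ := exists_act_eq _ hg hx e
  have hact' : act (eltM w) c = c ^ Fintype.card F := by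
    rw [hact]
    funext i
    exact Units.ext (by simp)
  obtain ⟨ds, hds⟩ := Option.isSome_iff_exists.1 (List.all_eq_true.1 elts_shape w hw)
  obtain ⟨hmem, hdet⟩ := shape_spec hds (Fintype.card F : ℤ)
  refine ⟨w, hw, hw4, hact', ds, hds, hmem, ?_⟩
  have hord : orderOf x = orderOf c := by
    rw [← orderOf_torus, ← e, ← orderOf_injective (MulAut.conj g).toMonoidHom (MulAut.conj g).injective x]
    rfl
  rw [hord, ← hdet]
  exact dvd_det_of_act _ _ _ hact'

theorem exists_root_of_dvd {r : ℕ} (hr : r.Prime) {q : ℤ} {ds : List ℕ}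
    (h : (r : ℤ) ∣ (ds.map fun d => pev q (phi d)).prod) : ∃ d ∈ ds, (r : ℤ) ∣ pev q (phi d) := by
  obtain ⟨a, ha, hra⟩ := (Prime.dvd_prod_iff (Nat.prime_iff_prime_int.1 hr)).1 h
  obtain ⟨d, hd, rfl⟩ := List.mem_map.1 ha
  exact ⟨d, hd, hra⟩

theorem shapes_degs : ∀ ds ∈ shapes, ∀ d ∈ ds, d ∈ degs := by decide

theorem shapes_big : ∀ ds ∈ shapes, (8 ∈ ds → ds = [8]) ∧ (12 ∈ ds → ds = [12]) := by decide

theorem shapes_small : ∀ ds ∈ shapes, ¬ (3 ∈ ds ∧ 4 ∈ ds) ∧ ¬ (3 ∈ ds ∧ 6 ∈ ds) ∧ ¬ (4 ∈ ds ∧ 6 ∈ ds) := by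
  decide

theorem five_le_of_order {r q : ℕ} (hr : r.Prime) (h : 3 ≤ orderOf (q : ZMod r)) (hq : ¬ r ∣ q) : 5 ≤ r := by
  have : Fact r.Prime := ⟨hr⟩
  have h1 := order_dvd_pred (q := q) hq
  have h2 : r ≠ 4 := by rintro rfl; norm_num at hr
  have h3 := Nat.le_of_dvd (by have := hr.two_le; omega) h1
  omega

/-- An element conjugate into the torus, with prime order. -/
theorem prime_into_torus [Finite L] {s : ℕ} (hs : s.Prime) (h5 : 5 ≤ s) (hdiv : s ∣ Nat.card L - 1)
    {y : GL chevF4.Idx L} (hy : y ∈ chevF4.group L) (hys : y ^ s = 1) :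
    ∃ g ∈ chevF4.group L, g * y * g⁻¹ ∈ chevF4.diagonalSubgroup L := by
  have : Fact s.Prime := ⟨hs⟩
  let T := (chevF4.diagonalSubgroup L).subgroupOf (chevF4.group L)
  have hT : Nat.card T = Nat.card (chevF4.diagonalSubgroup L) :=
    Nat.card_congr (Subgroup.subgroupOfEquivOfLe diag_le_group).toEquiv
  obtain ⟨g, -, hg⟩ := exists_conj_mem T ⊤ le_top s (by rw [hT, factorization_group hs h5 hdiv])
    (y := ⟨y, hy⟩) (Subgroup.mem_top _) (k := 1) (Subtype.ext (by simpa using hys))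
  exact ⟨g.val, g.2, hg⟩

theorem conj_pow_mem {L : Type*} [Field L] {g x : GL chevF4.Idx L} {a b : ℕ} (hab : Nat.Coprime a b)
    {H : Subgroup (GL chevF4.Idx L)} (h1 : g * x ^ a * g⁻¹ ∈ H) (h2 : g * x ^ b * g⁻¹ ∈ H) :
    g * x * g⁻¹ ∈ H := by
  obtain ⟨u, v, huv⟩ := Nat.isCoprime_iff_coprime.2 hab
  have : g * x * g⁻¹ = (g * x ^ a * g⁻¹) ^ u * (g * x ^ b * g⁻¹) ^ v := by
    rw [conj_zpow, conj_zpow, show g * (x ^ a) ^ u * g⁻¹ * (g * (x ^ b) ^ v * g⁻¹) = g * ((x ^ a) ^ u * (x ^ b) ^ v) * g⁻¹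
      by group, ← zpow_natCast, ← zpow_natCast, ← zpow_mul, ← zpow_mul, ← zpow_add, mul_comm (a : ℤ),
      mul_comm (b : ℤ), huv, zpow_one]
  rw [this]
  exact mul_mem (zpow_mem h1 _) (zpow_mem h2 _)

omit [Field F] in
theorem not_dvd_card_of_ne_zero {r : ℕ} (h : orderOf ((Fintype.card F : ℕ) : ZMod r) ≠ 0) (hr : r.Prime) :
    ¬ r ∣ Fintype.card F := by
  intro hd
  have : Fact r.Prime := ⟨hr⟩
  rw [(ZMod.natCast_eq_zero_iff _ r).2 hd, orderOf_zero] at h
  exact h rfl

theorem cast_ne_zero_of_not_dvd {r : ℕ} (hr : r.Prime) (h : ¬ r ∣ Fintype.card F) : (r : F) ≠ 0 := by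
  obtain ⟨p, hp⟩ := CharP.exists F
  obtain ⟨n, hpr, hn⟩ := FiniteField.card F p
  rw [Ne, CharP.cast_eq_zero_iff F p]
  intro hd
  rw [(Nat.prime_dvd_prime_iff_eq hpr hr).1 hd] at hn
  exact h (hn ▸ dvd_pow_self r n.ne_zero)

/-- The primes of the two largest orders. -/
theorem no_element_regular (h2F : (2 : F) = 0) {r s : ℕ} (hr : r.Prime) (hs : s.Prime) (hrs : r ≠ s)
    {l : ℕ} (hl : l = 8 ∨ l = 12) (hel : orderOf ((Fintype.card F : ℕ) : ZMod s) = l)
    (hk : r = 2 ∨ orderOf ((Fintype.card F : ℕ) : ZMod r) ≠ l) :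
    ¬ ∃ x : ↥(chevF4.group F), orderOf x = r * s := by
  rintro ⟨x₀, hx₀⟩
  set q := Fintype.card F with hq
  have : Fact r.Prime := ⟨hr⟩
  have : Fact s.Prime := ⟨hs⟩
  have hsq : ¬ s ∣ q := not_dvd_card_of_ne_zero (by rw [hel]; omega) hs
  have hs11 : 11 < s := by
    have h1 := order_dvd_pred (q := q) hsq
    rw [hel] at h1
    have h2 := Nat.le_of_dvd (by have := hs.two_le; omega) h1
    rcases hl with rfl | rfl
    · obtain ⟨m, hm⟩ := h1
      rcases Nat.lt_or_ge m 2 with h | h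
      · have : m = 1 := by omega
        subst this
        rw [show s = 9 by omega] at hs
        norm_num at hs
      · omega
    · omega
  obtain ⟨L, hL, hLs⟩ := exists_field (F := F) (N := s) (cast_ne_zero_of_not_dvd hs hsq)
  obtain ⟨x, hxG, hxo, hxfix⟩ := ext_data L x₀
  rw [hx₀] at hxo
  have hyo : orderOf (x ^ r) = s := by
    rw [orderOf_pow_of_dvd hr.ne_zero ⟨s, hxo⟩, hxo, Nat.mul_div_cancel_left _ hr.pos]
  have hyfix : mapG chevF4 (FiniteField.frobeniusAlgHom F L).toRingHom (x ^ r) = x ^ r := by rw [map_pow, hxfix]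
  obtain ⟨g, hg, hgy⟩ := prime_into_torus hs (by omega) hLs (pow_mem hxG r)
    (by rw [← hyo]; exact pow_orderOf_eq_one _)
  obtain ⟨c, hc⟩ := (ChevOrder.torusHom_range (F := L) hD4).ge hgy
  obtain ⟨w, hw, hw4, hact, ds, hds, hdsm, hdvd⟩ := exists_shape hg hyfix hc.symm
  rw [hyo] at hdvd
  obtain ⟨d, hd, hsd⟩ := exists_root_of_dvd hs hdvd
  have hdl : d = l := by rw [← hel, order_of_phi_root (by omega) (shapes_degs ds hdsm d hd) hsd]
  subst hdl
  have hds1 : ds = [d] := by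
    rcases hl with rfl | rfl
    · exact (shapes_big ds hdsm).1 hd
    · exact (shapes_big ds hdsm).2 hd
  subst hds1
  have hwc : w ∈ cls d := List.mem_filter.2 ⟨hw, by simp [hds]⟩
  have main : ∀ (w0 : List ℕ) (conj : List (List ℕ)), conjOK d w0 conj = true → regOK (matS w0) = true →
      stabOK (matS w0) = true → False := by
    intro w0 conj hconj hreg hstab
    simp only [conjOK, Bool.and_eq_true, beq_iff_eq] at hconj
    obtain ⟨i, hi, rfl⟩ := List.mem_iff_getElem.1 hwc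
    have hi' : i < conj.length := hconj.1 ▸ hi
    have hp := List.all_eq_true.1 hconj.2 ((cls d)[i], conj[i])
      (List.mem_iff_getElem.2 ⟨i, by rw [List.length_zip]; omega, List.getElem_zip⟩)
    simp only [Bool.and_eq_true, List.all_eq_true, decide_eq_true_eq, beq_iff_eq] at hp
    obtain ⟨hv, hmul⟩ := hp
    set v := conj[i] with hvdef
    set c0 := act (toM (matS v)) c with hc0
    have hact0 : act (toM (matS w0)) c0 = c0 ^ q := by
      calc act (toM (matS w0)) (act (toM (matS v)) c) = act (toM (mulS (matS w0) (matS v))) c := by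
            rw [toM_mulS]; exact (ChevOrder.act_mul _ _ c).symm
        _ = act (toM (mulS (matS v) (matS (wordN (cls d)[i])))) c := by rw [hmul]
        _ = act (toM (matS v)) (act (eltM (cls d)[i]) c) := by
            rw [toM_mulS]; exact ChevOrder.act_mul _ _ c
        _ = _ := by rw [hact]; exact map_pow _ c q
    set n := (chevRGD hD4 rootsF4 L).nw (wf v)
    have hn : n ∈ chevF4.group L := by
      rw [← chev_G hD4 rootsF4]; exact (chevRGD hD4 rootsF4 L).N_le_G ((chevRGD hD4 rootsF4 L).nw_mem_N _)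
    set g0 := n * g with hg0
    have hg0G : g0 ∈ chevF4.group L := mul_mem hn hg
    have ey : g0 * x ^ r * g0⁻¹ = torusHom chevF4 L c0 := by
      refine Eq.trans ?_ (nw_conj_word v hv c)
      rw [hc]
      show n * g * x ^ r * (n * g)⁻¹ = n * (g * x ^ r * g⁻¹) * n⁻¹
      group
    have hord : orderOf c0 = s :=
      (orderOf_torus c0).symm.trans (by
        rw [← ey, ← hyo]
        exact orderOf_injective (MulAut.conj g0).toMonoidHom (MulAut.conj g0).injective _)
    have hz : g0 * x ^ s * g0⁻¹ ∈ chevF4.diagonalSubgroup L := by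
      refine regular_diag hreg hstab hact0 hs hs11 hord (mul_mem (mul_mem hg0G (pow_mem hxG s)) (inv_mem hg0G)) ?_
      rw [← ey, show g0 * x ^ s * g0⁻¹ * (g0 * x ^ r * g0⁻¹) = g0 * (x ^ s * x ^ r) * g0⁻¹ by group,
        show g0 * x ^ r * g0⁻¹ * (g0 * x ^ s * g0⁻¹) = g0 * (x ^ r * x ^ s) * g0⁻¹ by group,
        ← pow_add, ← pow_add, add_comm]
    have hy' : g0 * x ^ r * g0⁻¹ ∈ chevF4.diagonalSubgroup L :=
      ey ▸ (ChevOrder.torusHom_range (F := L) hD4).le ⟨c0, rfl⟩
    have hxd := conj_pow_mem ((Nat.coprime_primes hr hs).2 hrs) hy' hz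
    obtain ⟨a, ha⟩ := (ChevOrder.torusHom_range (F := L) hD4).ge hxd
    have haord : orderOf a = r * s := by
      rw [← orderOf_torus, ha, ← hxo]
      exact orderOf_injective (MulAut.conj g0).toMonoidHom (MulAut.conj g0).injective _
    by_cases hr2 : r = 2
    · have h1 : a ^ s = 1 := by
        funext j
        have h2L : (2 : L) = 0 := by rw [← map_ofNat (algebraMap F L) 2, h2F, map_zero]
        have e : ((a j : L) ^ s) ^ 2 = 1 := by
          have := congrArg (fun b : Fin chevF4.rank → Lˣ => ((b j : Lˣ) : L))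
            (pow_orderOf_eq_one a)
          simp only [haord, hr2, Pi.pow_apply, Units.val_pow_eq_pow_val, Pi.one_apply, Units.val_one] at this
          rw [← pow_mul, mul_comm]
          exact this
        apply Units.ext
        simp only [Pi.pow_apply, Units.val_pow_eq_pow_val, Pi.one_apply, Units.val_one]
        have e2 : ((a j : L) ^ s - 1) ^ 2 = 0 := by linear_combination e - ((a j : L) ^ s - 1) * h2L
        exact sub_eq_zero.1 (pow_eq_zero_iff (by norm_num : 2 ≠ 0) |>.1 e2)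
      have h2 := orderOf_dvd_of_pow_eq_one h1
      rw [haord] at h2
      have h3 := Nat.le_of_dvd hs.pos h2
      have := hr.two_le
      nlinarith [hs.pos]
    obtain ⟨w', -, -, -, ds', -, hdsm', hdvd'⟩ := exists_shape hg0G hxfix ha.symm
    rw [hxo, Nat.cast_mul] at hdvd'
    obtain ⟨d', hd', hsd'⟩ := exists_root_of_dvd hs ((dvd_mul_left _ _).trans hdvd')
    have hdl : d' = d := by rw [← hel, order_of_phi_root (by omega) (shapes_degs ds' hdsm' d' hd') hsd']
    subst hdl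
    have hds' : ds' = [d'] := by
      rcases hl with rfl | rfl
      · exact (shapes_big ds' hdsm').1 hd'
      · exact (shapes_big ds' hdsm').2 hd'
    subst hds'
    obtain ⟨e, he, hre⟩ := exists_root_of_dvd hr ((dvd_mul_right _ _).trans hdvd')
    rw [List.mem_singleton] at he
    subst he
    exact (hk.resolve_left hr2) (order_of_phi_root' hr2 hl hre)
  rcases hl with rfl | rfl
  · exact main repEight conjEight conj_eight reg_eight stab_eight
  · exact main repTwelve conjTwelve conj_twelve reg_twelve stab_twelve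

/-- The orders three, four and six. -/
theorem no_element_pair {r s : ℕ} (hr : r.Prime) (hs : s.Prime) (hrs : r ≠ s) {k l : ℕ}
    (hk : orderOf ((Fintype.card F : ℕ) : ZMod r) = k) (hl : orderOf ((Fintype.card F : ℕ) : ZMod s) = l)
    (hkl : (k = 3 ∧ l = 4) ∨ (k = 3 ∧ l = 6) ∨ (k = 4 ∧ l = 6)) :
    ¬ ∃ x : ↥(chevF4.group F), orderOf x = r * s := by
  rintro ⟨x₀, hx₀⟩
  set q := Fintype.card F with hq
  have : Fact r.Prime := ⟨hr⟩
  have : Fact s.Prime := ⟨hs⟩
  have hrq : ¬ r ∣ q := not_dvd_card_of_ne_zero (by rw [hk]; omega) hr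
  have hsq : ¬ s ∣ q := not_dvd_card_of_ne_zero (by rw [hl]; omega) hs
  have hr5 := five_le_of_order hr (by rw [hk]; omega) hrq
  have hs5 := five_le_of_order hs (by rw [hl]; omega) hsq
  obtain ⟨L, hL, hLd⟩ := exists_field (F := F) (N := r * s) (by
    rw [Nat.cast_mul]; exact mul_ne_zero (cast_ne_zero_of_not_dvd hr hrq) (cast_ne_zero_of_not_dvd hs hsq))
  obtain ⟨x, hxG, hxo, hxfix⟩ := ext_data L x₀
  rw [hx₀] at hxo
  have hxrs : x ^ (r * s) = 1 := by rw [← hxo]; exact pow_orderOf_eq_one x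
  obtain ⟨g, hg, hgy⟩ := prime_into_torus hs hs5 ((dvd_mul_left _ _).trans hLd) (pow_mem hxG r)
    (by rw [← pow_mul, hxrs])
  set y : ↥(chevF4.group L) := ⟨g * x ^ r * g⁻¹, diag_le_group hgy⟩
  set z : ↥(chevF4.group L) := ⟨g * x ^ s * g⁻¹, mul_mem (mul_mem hg (pow_mem hxG s)) (inv_mem hg)⟩
  let T := (chevF4.diagonalSubgroup L).subgroupOf (chevF4.group L)
  have hT : Nat.card T = Nat.card (chevF4.diagonalSubgroup L) :=
    Nat.card_congr (Subgroup.subgroupOfEquivOfLe diag_le_group).toEquiv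
  obtain ⟨h, hh, hhz⟩ := exists_conj_mem T (Subgroup.centralizer {y})
    (fun t ht => Subgroup.mem_centralizer_singleton_iff.2 (Subtype.ext (diag_commute hD4 ht hgy)))
    r (by rw [hT, factorization_group hr hr5 ((dvd_mul_right _ _).trans hLd)]) (y := z)
    (Subgroup.mem_centralizer_singleton_iff.2 (Subtype.ext (by
      show g * x ^ s * g⁻¹ * (g * x ^ r * g⁻¹) = g * x ^ r * g⁻¹ * (g * x ^ s * g⁻¹)
      rw [show g * x ^ s * g⁻¹ * (g * x ^ r * g⁻¹) = g * (x ^ s * x ^ r) * g⁻¹ by group,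
        show g * x ^ r * g⁻¹ * (g * x ^ s * g⁻¹) = g * (x ^ r * x ^ s) * g⁻¹ by group,
        ← pow_add, ← pow_add, add_comm])))
    (k := 1) (Subtype.ext (by
      show (g * x ^ s * g⁻¹) ^ r ^ 1 = 1
      rw [pow_one, conj_pow, ← pow_mul, mul_comm, hxrs, mul_one, mul_inv_cancel]))
  have ey : (h.val * g) * x ^ r * (h.val * g)⁻¹ = g * x ^ r * g⁻¹ := by
    have := congrArg Subtype.val (Subgroup.mem_centralizer_singleton_iff.1 hh)
    replace this : h.val * (g * x ^ r * g⁻¹) = g * x ^ r * g⁻¹ * h.val := this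
    calc (h.val * g) * x ^ r * (h.val * g)⁻¹ = h.val * (g * x ^ r * g⁻¹) * h.val⁻¹ := by group
      _ = _ := by rw [this]; group
  have hxd : (h.val * g) * x * (h.val * g)⁻¹ ∈ chevF4.diagonalSubgroup L := by
    refine conj_pow_mem ((Nat.coprime_primes hr hs).2 hrs) (by rw [ey]; exact hgy) ?_
    have : (h * z * h⁻¹).val ∈ chevF4.diagonalSubgroup L := hhz
    rw [show (h.val * g) * x ^ s * (h.val * g)⁻¹ = h.val * (g * x ^ s * g⁻¹) * h.val⁻¹ by group]
    exact this
  obtain ⟨a, ha⟩ := (ChevOrder.torusHom_range (F := L) hD4).ge hxd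
  obtain ⟨w, -, -, -, ds, -, hdsm, hdvd⟩ := exists_shape (mul_mem h.2 hg) hxfix ha.symm
  rw [hxo, Nat.cast_mul] at hdvd
  obtain ⟨d, hd, hrd⟩ := exists_root_of_dvd hr ((dvd_mul_right _ _).trans hdvd)
  obtain ⟨e, he, hse⟩ := exists_root_of_dvd hs ((dvd_mul_left _ _).trans hdvd)
  rw [← order_of_phi_root hr5 (shapes_degs ds hdsm d hd) hrd, hk] at hd
  rw [← order_of_phi_root hs5 (shapes_degs ds hdsm e he) hse, hl] at he
  obtain ⟨h1, h2, h3⟩ := shapes_small ds hdsm
  rcases hkl with ⟨rfl, rfl⟩ | ⟨rfl, rfl⟩ | ⟨rfl, rfl⟩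
  · exact h1 ⟨hd, he⟩
  · exact h2 ⟨hd, he⟩
  · exact h3 ⟨hd, he⟩

end Cfsg.Agent.ChevPG
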