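import Cfsg.Agent.EqLemmas
import Cfsg.Agent.Lib.ChevPG.NonAdjacent
import Cfsg.Agent.Lib.ChevLang.Torsion

/-!
# Adjacency in the prime graph of F4

`adjacent_pair`: two odd primes whose orders occur in one element of the Weyl group. `adjacent_two`: elements of
order `2 s` in characteristic two, from a twisted torus fixing a root.
-/

set_option autoImplicit false

namespace Cfsg.Agent.ChevPG

open Cfsg.Lie Cfsg.Lie.ChevalleyDatum Cfsg.Agent.Chev Cfsg.Agent.ChevBN Cfsg.Agent.ChevSt Cfsg.Agent.ChevFixed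
open Cfsg.Agent.ChevOrder (act torusHom)
open Cfsg.Agent.ChevLang (pev wl)
open scoped Matrix

universe u

/-- A word for a pair of orders. -/
def pairWord : ℕ → ℕ → List ℕ
  | 2, 3 => [3, 1, 0]
  | 2, 4 => [2, 1, 2, 1, 0]
  | 2, 6 => [2, 1, 0]
  | 1, 2 => [0]
  | 1, 3 => [1, 0]
  | 1, 4 => [2, 1]
  | 1, 6 => [2, 1, 0]
  | 2, 2 => [0]
  | 3, 3 => [1, 0]
  | 4, 4 => [2, 1]
  | 6, 6 => [2, 1, 0]
  | 8, 8 => repEight
  | 12, 12 => repTwelve
  | _, _ => []

/-- The word gives both orders. -/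
def wordOK (w : List ℕ) (k l : ℕ) : Bool :=
  w.all (fun i => decide (i < 4)) && mulS (matS w) (matS w.reverse) == idS &&
    (shape (matS w.reverse)).any fun ds => ds.contains k && ds.contains l

/-- The pairs of orders with adjacent primes, up to order. -/
def adjPairs : List (ℕ × ℕ) :=
  [(1, 1), (2, 2), (3, 3), (4, 4), (6, 6), (8, 8), (12, 12), (1, 2), (1, 3), (1, 4), (1, 6), (2, 3), (2, 4), (2, 6)]

theorem adjPairs_ok : adjPairs.all (fun p => wordOK (pairWord p.1 p.2) p.1 p.2) = true := by decide +kernel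

theorem fix_root : ∀ l ∈ [1, 2, 3, 4, 6],
    wordOK (pairWord l l) l l = true ∧ (l ≠ 1 → wl chevF4 (wf (pairWord l l)) 0 = 0) := by decide +kernel

variable {F : Type u} [Field F] [Fintype F]

theorem wordOK_iff {w : List ℕ} {k l : ℕ} (h : wordOK w k l = true) :
    (∀ i ∈ w, i < 4) ∧ toM (matS w) * toM (matS w.reverse) = 1 ∧
      ∃ ds, shape (matS w.reverse) = some ds ∧ k ∈ ds ∧ l ∈ ds := by
  simp only [wordOK, Bool.and_eq_true, List.all_eq_true, decide_eq_true_eq, beq_iff_eq, Option.any_eq_true] at h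
  obtain ⟨⟨h1, h2⟩, ds, h3, h4, h5⟩ := h
  refine ⟨h1, by rw [← toM_mulS, h2, toM_idS], ds, h3, ?_, ?_⟩
  · simpa using h4
  · simpa using h5

/-- An eigenvector modulo a prime. -/
theorem exists_vec {r : ℕ} (hr : r.Prime) {w : List ℕ} {k : ℕ} {ds : List ℕ}
    (hds : shape (matS w.reverse) = some ds) (hk : k ∈ ds) (q : ℕ) (hroot : (r : ℤ) ∣ pev (q : ℤ) (phi k)) :
    ∃ v : Fin 4 → ℤ,
      (∀ i, (r : ℤ) ∣ (((q : ℤ) • (1 : Matrix (Fin 4) (Fin 4) ℤ) - toM (matS w.reverse)) *ᵥ v) i) ∧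
        ∃ i, ¬ (r : ℤ) ∣ v i := by
  have : Fact r.Prime := ⟨hr⟩
  set B := (q : ℤ) • (1 : Matrix (Fin 4) (Fin 4) ℤ) - toM (matS w.reverse)
  have hdet : (r : ℤ) ∣ B.det := by
    rw [(shape_spec hds (q : ℤ)).2]
    exact hroot.trans (List.dvd_prod (List.mem_map.2 ⟨k, hk, rfl⟩))
  have h0 : (B.map (Int.castRingHom (ZMod r))).det = 0 := by
    rw [← RingHom.mapMatrix_apply, ← RingHom.map_det, eq_intCast, ZMod.intCast_zmod_eq_zero_iff_dvd]
    exact hdet
  obtain ⟨v, hv, hBv⟩ := Matrix.exists_mulVec_eq_zero_iff.2 h0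
  choose z hz using fun i => ZMod.intCast_surjective (v i)
  refine ⟨z, fun i => ?_, ?_⟩
  · rw [← ZMod.intCast_zmod_eq_zero_iff_dvd]
    have := congrFun hBv i
    rw [Pi.zero_apply] at this
    rw [← this, Matrix.mulVec, dotProduct, Int.cast_sum, Matrix.mulVec, dotProduct]
    exact Finset.sum_congr rfl fun j _ => by rw [Int.cast_mul, hz, Matrix.map_apply]; rfl
  · by_contra hh
    push Not at hh
    refine hv (funext fun i => ?_)
    rw [← hz, (ZMod.intCast_zmod_eq_zero_iff_dvd _ _).2 (hh i)]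
    rfl

/-- The twisted torus of a word. -/
theorem twisted_data {N : ℕ} (hN : (N : F) ≠ 0) {w : List ℕ}
    (hinv : toM (matS w) * toM (matS w.reverse) = 1) (v : Fin 4 → ℤ)
    (hv : ∀ i, (N : ℤ) ∣ (((Fintype.card F : ℤ) • (1 : Matrix (Fin 4) (Fin 4) ℤ) - toM (matS w.reverse)) *ᵥ v) i)
    (hprim : ∀ k : ℕ, (∀ i, (N : ℤ) ∣ k * v i) → N ∣ k) :
    ∃ (σ : AlgebraicClosure F →+* AlgebraicClosure F) (c : Fin chevF4.rank → (AlgebraicClosure F)ˣ)
      (g : GL chevF4.Idx (AlgebraicClosure F)) (ζ : (AlgebraicClosure F)ˣ),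
      (∀ z, σ z = z ^ Fintype.card F) ∧ g ∈ chevF4.group _ ∧
      mapG chevF4 σ g = g * (chevRGD hD4 rootsF4 (AlgebraicClosure F)).nw (wf w) ∧
      orderOf c = N ∧ act (toM (matS w)) (c ^ Fintype.card F) = c ∧ IsPrimitiveRoot ζ N ∧ c = fun i => ζ ^ v i := by
  have hN0 : N ≠ 0 := by rintro rfl; simp at hN
  obtain ⟨p, hp⟩ := CharP.exists F
  obtain ⟨f, hpr, hqf⟩ := FiniteField.card F p
  have : Fact p.Prime := ⟨hpr⟩
  let K := AlgebraicClosure F
  have : CharP K p := charP_of_injective_algebraMap (algebraMap F K).injective p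
  have : ExpChar K p := ExpChar.prime hpr
  let σ : K →+* K := iterateFrobenius K p (f : ℕ)
  have hσ : ∀ z, σ z = z ^ Fintype.card F := fun z => by rw [hqf]; exact iterateFrobenius_def p _ z
  set R := chevRGD hD4 rootsF4 K
  have hnG : R.nw (wf w) ∈ chevF4.group K := by rw [← chev_G hD4 rootsF4]; exact R.N_le_G (R.nw_mem_N _)
  obtain ⟨g, hgG, hg⟩ := ChevLang.exists_lang hD4 f.pos hqf σ hσ hnG
  have : NeZero (N : K) := ⟨fun h => hN ((map_eq_zero (algebraMap F K)).1 (by rw [map_natCast, h]))⟩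
  obtain ⟨ζ', hζ'⟩ : ∃ ζ : K, IsPrimitiveRoot ζ N := by
    obtain ⟨z, hz⟩ := IsAlgClosed.exists_root (Polynomial.cyclotomic N K)
      (Polynomial.degree_cyclotomic_pos N K (Nat.pos_of_ne_zero hN0)).ne'
    exact ⟨z, Polynomial.isRoot_cyclotomic_iff.1 hz⟩
  let ζ : Kˣ := (hζ'.isUnit hN0).unit
  have hζ : IsPrimitiveRoot ζ N := IsPrimitiveRoot.coe_units_iff.1 hζ'
  let c : Fin 4 → Kˣ := fun i => ζ ^ v i
  refine ⟨σ, c, g, ζ, hσ, hgG, hg, ?_, ?_, hζ, rfl⟩
  · refine Nat.dvd_antisymm (orderOf_dvd_of_pow_eq_one (funext fun i => ?_)) (hprim _ fun i => ?_)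
    · show (ζ ^ v i) ^ N = 1
      rw [← zpow_natCast, ← zpow_mul, hζ.zpow_eq_one_iff_dvd]
      exact dvd_mul_left _ _
    · have := congrFun (pow_orderOf_eq_one c) i
      rw [Pi.pow_apply, Pi.one_apply] at this
      rw [← hζ.zpow_eq_one_iff_dvd, mul_comm, zpow_mul, zpow_natCast]
      exact this
  · set A' := toM (matS w.reverse)
    have h1 : act ((Fintype.card F : ℤ) • (1 : Matrix (Fin 4) (Fin 4) ℤ) - A') c = 1 := funext fun j => by
      rw [ChevOrder.act_apply, Pi.one_apply]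
      simp only [c, ← zpow_mul, ← ChevOrder.zpow_sum', hζ.zpow_eq_one_iff_dvd]
      have := hv j
      rw [Matrix.mulVec, dotProduct] at this
      convert this using 1
      exact Finset.sum_congr rfl fun i _ => mul_comm _ _
    have h2 : c ^ Fintype.card F = act A' c := by
      have e : act ((Fintype.card F : ℤ) • (1 : Matrix (Fin 4) (Fin 4) ℤ)) c =
          act ((Fintype.card F : ℤ) • (1 : Matrix (Fin 4) (Fin 4) ℤ) - A') c * act A' c := by
        rw [← ChevLang.act_add, sub_add_cancel]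
      rw [ChevLang.act_smul, ChevOrder.act_one, h1, one_mul, zpow_natCast] at e
      exact e
    calc act (toM (matS w)) (c ^ Fintype.card F) = act (toM (matS w)) (act A' c) := by rw [h2]
      _ = act (toM (matS w) * A') c := (ChevOrder.act_mul _ _ c).symm
      _ = c := by rw [hinv]; exact ChevOrder.act_one c

/-- A fixed element of the twisted group comes from the finite group. -/
theorem exists_of_fixed {σ : AlgebraicClosure F →+* AlgebraicClosure F} (hσ : ∀ z, σ z = z ^ Fintype.card F)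
    {x : GL chevF4.Idx (AlgebraicClosure F)} (hx : x ∈ chevF4.group _) (hfix : mapG chevF4 σ x = x) {N : ℕ}
    (hN : orderOf x = N) : ∃ y : ↥(chevF4.group F), orderOf y = N := by
  obtain ⟨y, hy, hye⟩ := ChevLang.mem_image_of_pow hD4 rootsF4 σ hσ hx hfix (m := N)
    (by rw [← hN]; exact pow_orderOf_eq_one x) (by simp)
  refine ⟨⟨y, hy⟩, ?_⟩
  rw [← hN, ← hye, Subgroup.orderOf_mk]
  exact (orderOf_injective _ (mapG_injective _) y).symm

/-- The toral elements of a twisted torus are fixed after conjugation. -/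
theorem fixed_conj {w : List ℕ} (hw : ∀ i ∈ w, i < 4) {K : Type u} [Field K] (σ : K →+* K) {q : ℕ}
    (hσ : ∀ z, σ z = z ^ q) {g : GL chevF4.Idx K} (hg : mapG chevF4 σ g = g * (chevRGD hD4 rootsF4 K).nw (wf w))
    {c : Fin chevF4.rank → Kˣ} (hc : act (toM (matS w)) (c ^ q) = c) :
    mapG chevF4 σ (g * torusHom chevF4 K c * g⁻¹) = g * torusHom chevF4 K c * g⁻¹ := by
  have e : (fun i => Units.map σ.toMonoidHom (c i)) = c ^ q := funext fun i => Units.ext (by simp [hσ])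
  have h := nw_conj_word (K := K) w hw (c ^ q)
  rw [show act (toM (matS w)) (c ^ q) = c from hc] at h
  rw [map_mul, map_mul, map_inv, hg, mapG_torusHom hD4, e, ← h]
  group

/-- Root values after the action of a word. -/
theorem chi_act {D : ChevalleyDatum} {K : Type*} [Field K] (A : Matrix (Fin D.rank) (Fin D.rank) ℤ) {r r' : ℕ}
    (hA : ∀ i : Fin D.rank, ∑ j : Fin D.rank, A j i * D.cartan j.val r' = D.cartan i.val r)
    (d : Fin D.rank → Kˣ) : ChevOrder.chi (act A d) r' = ChevOrder.chi d r := by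
  simp only [ChevOrder.chi, ChevOrder.act_apply, ← Finset.prod_zpow, ← zpow_mul]
  rw [Finset.prod_comm]
  exact Finset.prod_congr rfl fun i _ => by rw [← ChevOrder.zpow_sum', hA i]

/-- A root fixed by a word keeps its value. -/
theorem chi_word_fix {w : List ℕ} (hw : ∀ i ∈ w, i < 4) {ρ : ℕ} (hρ : ρ < chevF4.nroots)
    (hfix : wl chevF4 (wf w) ρ = ρ) {K : Type*} [Field K] (d : Fin chevF4.rank → Kˣ) :
    ChevOrder.chi (D := chevF4) (act (toM (matS w)) d) ρ = ChevOrder.chi d ρ :=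
  chi_act (D := chevF4) (toM (matS w)) (fun i => by
    have h := matS_spec hD4 w hw i hρ
    rw [hfix] at h
    exact h) d

/-- Two odd primes. -/
theorem adjacent_pair {r s : ℕ} (hr : r.Prime) (hs : s.Prime) (hrs : r ≠ s) (hrq : ¬ r ∣ Fintype.card F)
    (hsq : ¬ s ∣ Fintype.card F) {k l : ℕ} (hkl : (k, l) ∈ adjPairs)
    (hk : orderOf ((Fintype.card F : ℕ) : ZMod r) = k) (hl : orderOf ((Fintype.card F : ℕ) : ZMod s) = l) :
    ∃ x : ↥(chevF4.group F), orderOf x = r * s := by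
  have : Fact r.Prime := ⟨hr⟩
  have : Fact s.Prime := ⟨hs⟩
  obtain ⟨hw, hinv, ds, hds, hkd, hld⟩ := wordOK_iff (List.all_eq_true.1 adjPairs_ok (k, l) hkl)
  set w := pairWord k l
  have hdeg : ∀ p ∈ adjPairs, p.1 ∈ degs ∧ p.2 ∈ degs := by decide
  obtain ⟨v, hv, i, hvi⟩ := exists_vec hr hds hkd _ (phi_root (hdeg _ hkl).1 hk)
  obtain ⟨v', hv', i', hvi'⟩ := exists_vec hs hds hld _ (phi_root (hdeg _ hkl).2 hl)
  have hzr : Prime (r : ℤ) := Nat.prime_iff_prime_int.1 hr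
  have hzs : Prime (s : ℤ) := Nat.prime_iff_prime_int.1 hs
  have hnr : ¬ (r : ℤ) ∣ s := fun h => hrs ((Nat.prime_dvd_prime_iff_eq hr hs).1 (Int.natCast_dvd_natCast.1 h))
  have hns : ¬ (s : ℤ) ∣ r := fun h => hrs ((Nat.prime_dvd_prime_iff_eq hs hr).1 (Int.natCast_dvd_natCast.1 h)).symm
  have hN : ((r * s : ℕ) : F) ≠ 0 := by
    rw [Nat.cast_mul]; exact mul_ne_zero (cast_ne_zero_of_not_dvd hr hrq) (cast_ne_zero_of_not_dvd hs hsq)
  have hv'' : ∀ j, ((r * s : ℕ) : ℤ) ∣ (((Fintype.card F : ℤ) • (1 : Matrix (Fin 4) (Fin 4) ℤ) -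
      toM (matS w.reverse)) *ᵥ ((s : ℤ) • v + (r : ℤ) • v')) j := fun j => by
    rw [Matrix.mulVec_add, Matrix.mulVec_smul, Matrix.mulVec_smul, Pi.add_apply, Pi.smul_apply, Pi.smul_apply,
      smul_eq_mul, smul_eq_mul, Nat.cast_mul]
    refine dvd_add ?_ (mul_dvd_mul_left _ (hv' j))
    rw [mul_comm (r : ℤ)]
    exact mul_dvd_mul_left _ (hv j)
  have hn'' : ∀ n : ℕ, (∀ j, ((r * s : ℕ) : ℤ) ∣ n * ((s : ℤ) • v + (r : ℤ) • v') j) → r * s ∣ n := fun n hn => by
    refine ((Nat.coprime_primes hr hs).2 hrs).mul_dvd_of_dvd_of_dvd ?_ ?_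
    · have h : (r : ℤ) ∣ n * (s * v i + r * v' i) := (Int.natCast_dvd_natCast.2 (dvd_mul_right r s)).trans (hn i)
      have h2 : (r : ℤ) ∣ n * (s * v i) := by
        have h3 : (r : ℤ) ∣ n * (r * v' i) := dvd_mul_of_dvd_right (dvd_mul_right _ _) _
        rw [show (n : ℤ) * (s * v i) = n * (s * v i + r * v' i) - n * (r * v' i) by ring]
        exact dvd_sub h h3
      rcases hzr.dvd_or_dvd h2 with h4 | h4
      · exact Int.natCast_dvd_natCast.1 h4
      · rcases hzr.dvd_or_dvd h4 with h5 | h5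
        · exact absurd h5 hnr
        · exact absurd h5 hvi
    · have h : (s : ℤ) ∣ n * (s * v i' + r * v' i') := (Int.natCast_dvd_natCast.2 (dvd_mul_left s r)).trans (hn i')
      have h2 : (s : ℤ) ∣ n * (r * v' i') := by
        have h3 : (s : ℤ) ∣ n * (s * v i') := dvd_mul_of_dvd_right (dvd_mul_right _ _) _
        rw [show (n : ℤ) * (r * v' i') = n * (s * v i' + r * v' i') - n * (s * v i') by ring]
        exact dvd_sub h h3
      rcases hzs.dvd_or_dvd h2 with h4 | h4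
      · exact Int.natCast_dvd_natCast.1 h4
      · rcases hzs.dvd_or_dvd h4 with h5 | h5
        · exact absurd h5 hns
        · exact absurd h5 hvi'
  obtain ⟨σ, c, g, ζ, hσ, hgG, hg, hord, hfix, -, -⟩ := twisted_data hN hinv _ hv'' hn''
  refine exists_of_fixed hσ ?_ (fixed_conj hw σ hσ hg hfix) ?_
  · exact mul_mem (mul_mem hgG (diag_le_group ((ChevOrder.torusHom_range hD4).le ⟨c, rfl⟩))) (inv_mem hgG)
  · rw [← hord, ← orderOf_torus c]
    exact orderOf_injective (MulAut.conj g).toMonoidHom (MulAut.conj g).injective _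

/-- The prime two. -/
theorem adjacent_two (h2F : (2 : F) = 0) {s : ℕ} (hs : s.Prime) (hs2 : s ≠ 2) (hsq : ¬ s ∣ Fintype.card F)
    {l : ℕ} (hl : l ∈ [1, 2, 3, 4, 6]) (hel : orderOf ((Fintype.card F : ℕ) : ZMod s) = l) :
    ∃ x : ↥(chevF4.group F), orderOf x = 2 * s := by
  have : Fact s.Prime := ⟨hs⟩
  set q := Fintype.card F with hq
  have hq2 : 2 ≤ q := Fintype.one_lt_card
  obtain ⟨hok, hfixρ⟩ := fix_root l hl
  obtain ⟨hw, hinv, ds, hds, hld, -⟩ := wordOK_iff hok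
  set w := pairWord l l with hwdef
  have hdeg : ∀ x ∈ [1, 2, 3, 4, 6], x ∈ degs := by decide
  -- the root and the vector
  obtain ⟨ρ, hρ, hρfix, v, hv, hprim, hrho⟩ : ∃ ρ, ρ < chevF4.nroots ∧ wl chevF4 (wf w) ρ = ρ ∧ ∃ v : Fin 4 → ℤ,
      (∀ i, (s : ℤ) ∣ (((q : ℤ) • (1 : Matrix (Fin 4) (Fin 4) ℤ) - toM (matS w.reverse)) *ᵥ v) i) ∧
      (∀ k : ℕ, (∀ i, (s : ℤ) ∣ k * v i) → s ∣ k) ∧
      ((s : ℤ) ∣ ∑ i : Fin 4, v i * chevF4.cartan i.val ρ ∨ ¬ s ∣ q - 1) := by
    by_cases h1 : l = 1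
    · subst h1
      have hw1 : w = [] := rfl
      refine ⟨chevF4.simple 0, hD4.simple_lt 0 (by decide), by rw [hw1]; rfl, ![0, 0, 0, 1], fun i => ?_,
        fun k hk => ?_, Or.inl ?_⟩
      · have h1 : (s : ℤ) ∣ (q : ℤ) - 1 := by
          rw [← ZMod.intCast_zmod_eq_zero_iff_dvd, Int.cast_sub, Int.cast_natCast, Int.cast_one, sub_eq_zero]
          exact orderOf_eq_one_iff.1 hel
        have e : toM (matS w.reverse) = 1 := by rw [hw1, ← toM_idS]; rfl
        rw [e, Matrix.sub_mulVec, Matrix.smul_mulVec, Matrix.one_mulVec, Pi.sub_apply, Pi.smul_apply, smul_eq_mul,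
          ← sub_one_mul]
        exact h1.mul_right _
      · have := hk 3
        simp only [Matrix.cons_val, mul_one] at this
        exact Int.natCast_dvd_natCast.1 this
      · have e : ∀ ρ, ∑ i : Fin 4, (![0, 0, 0, 1] : Fin 4 → ℤ) i * chevF4.cartan i.val ρ = chevF4.cartan 3 ρ :=
          fun ρ => by simp [Fin.sum_univ_four]
        rw [e, show chevF4.cartan 3 (chevF4.simple 0) = 0 by decide +kernel]
        exact dvd_zero _
    · obtain ⟨v, hv, i, hvi⟩ := exists_vec hs hds hld q (phi_root (hdeg l hl) hel)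
      refine ⟨0, by decide +kernel, hfixρ h1, v, hv, fun k hk => ?_, Or.inr fun h => h1 ?_⟩
      · rcases (Nat.prime_iff_prime_int.1 hs).dvd_or_dvd (hk i) with h4 | h4
        · exact Int.natCast_dvd_natCast.1 h4
        · exact absurd h4 hvi
      · rw [← hel, orderOf_eq_one_iff]
        have := (ZMod.natCast_eq_zero_iff (q - 1) s).2 h
        rwa [Nat.cast_sub (by omega), Nat.cast_one, sub_eq_zero] at this
  obtain ⟨σ, c, g, ζ, hσ, hgG, hg, hord, hfix, hζ, hc⟩ :=
    twisted_data (cast_ne_zero_of_not_dvd hs hsq) hinv v hv hprim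
  -- the root value is one
  have hchi : ChevOrder.chi c ρ = 1 := by
    rcases hrho with h | h
    · rw [hc]
      simp only [ChevOrder.chi, ← zpow_mul]
      rw [← ChevOrder.zpow_sum', hζ.zpow_eq_one_iff_dvd]
      exact h
    · have e1 : ∀ d : Fin chevF4.rank → (AlgebraicClosure F)ˣ,
          ChevOrder.chi (D := chevF4) (act (toM (matS w)) d) ρ = ChevOrder.chi d ρ :=
        fun d => chi_word_fix hw hρ hρfix d
      have e2 : ∀ n : ℕ, ChevOrder.chi (c ^ n) ρ = ChevOrder.chi c ρ ^ n := by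
        intro n
        rw [chi_eq_pr4, chi_eq_pr4]
        exact pr4_pow _ c n
      have e3 : ChevOrder.chi c ρ ^ q = ChevOrder.chi c ρ := by rw [← e2, ← e1, hfix]
      have e4 : ChevOrder.chi c ρ ^ (q - 1) = 1 := by
        refine mul_left_cancel (a := ChevOrder.chi c ρ) ?_
        rw [← pow_succ', Nat.sub_add_cancel (by omega), e3, mul_one]
      have e5 : ChevOrder.chi c ρ ^ s = 1 := by
        rw [← e2, ← hord, pow_orderOf_eq_one]
        exact ChevOrder.chi_one ρ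
      have e6 := pow_gcd_eq_one.2 ⟨e4, e5⟩
      rwa [Nat.Coprime.gcd_eq_one ((hs.coprime_iff_not_dvd.2 h).symm), pow_one] at e6
  -- the unipotent part
  set K := AlgebraicClosure F
  obtain ⟨p, hp⟩ : ∃ p, (chevRGD hD4 rootsF4 K).ww (wf w) ⟨ρ, hρ⟩ = p := ⟨_, rfl⟩
  obtain ⟨a, ha, hlin⟩ := ChevTorus.nw_conj_xg hD4 rootsF4 (F := K) (wf w) ⟨ρ, hρ⟩
  have hρ' : ((chevRGD hD4 rootsF4 K).ww (wf w) ⟨ρ, hρ⟩).val = ρ := by
    rw [ChevLang.wl_eq hD4 rootsF4]; exact hρfix
  obtain ⟨u, hu⟩ := IsAlgClosed.exists_pow_nat_eq a⁻¹ (show 0 < q - 1 by omega)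
  have hu0 : u ≠ 0 := fun h => inv_ne_zero ha (by rw [← hu, h, zero_pow (by omega)])
  set t := torusHom chevF4 K c
  set y := xg hD4 K ρ u
  have hty : Commute t y := by
    show t * y = y * t
    rw [ChevLang.torusHom_mul_xg hD4 c hρ, hchi, Units.val_one, one_mul]
  have hy2 : orderOf y = 2 := by
    refine orderOf_eq_prime ?_ ?_
    · rw [pow_two, xg_add hD4 hρ, ← two_mul, show (2 : K) = 0 by rw [← map_ofNat (algebraMap F K) 2, h2F, map_zero],
        zero_mul, xg_zero]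
    · exact fun h => hu0 (xg_eq_one hD4 hρ h)
  have hto : orderOf t = s := (orderOf_torus c).trans hord
  have hmul : orderOf (t * y) = 2 * s := by
    rw [hty.orderOf_mul_eq_mul_orderOf_of_coprime
      (by rw [hto, hy2]; exact (Nat.coprime_primes hs Nat.prime_two).2 hs2), hto, hy2, mul_comm]
  have hyfix : mapG chevF4 σ (g * y * g⁻¹) = g * y * g⁻¹ := by
    rw [map_mul, map_mul, map_inv, hg, mapG_xg hD4, hσ]
    set n := (chevRGD hD4 rootsF4 K).nw (wf w)
    have e : n * xg hD4 K ρ (u ^ q) = y * n := by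
      have := hlin (u ^ q)
      rw [hρ'] at this
      rw [this]
      congr 2
      calc a * u ^ q = a * (u ^ (q - 1) * u) := by rw [← pow_succ, Nat.sub_add_cancel (by omega)]
        _ = u := by rw [hu, ← mul_assoc, mul_inv_cancel₀ ha, one_mul]
    calc g * n * xg hD4 K ρ (u ^ q) * (g * n)⁻¹ = g * (n * xg hD4 K ρ (u ^ q)) * n⁻¹ * g⁻¹ := by group
      _ = _ := by rw [e]; group
  refine exists_of_fixed hσ (x := g * (t * y) * g⁻¹) ?_ ?_ ?_
  · exact mul_mem (mul_mem hgG (mul_mem (diag_le_group ((ChevOrder.torusHom_range hD4).le ⟨c, rfl⟩))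
      (xg_mem_group hD4 _ _))) (inv_mem hgG)
  · rw [show g * (t * y) * g⁻¹ = (g * t * g⁻¹) * (g * y * g⁻¹) by group, map_mul, fixed_conj hw σ hσ hg hfix, hyfix]
  · rw [← hmul]
    exact orderOf_injective (MulAut.conj g).toMonoidHom (MulAut.conj g).injective _

end Cfsg.Agent.ChevPG
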